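import Cfsg.Agent.Lib.Zsigmondy
import Cfsg.Agent.S1545
import Cfsg.Agent.S0058
import Cfsg.Agent.S1324
import Cfsg.Agent.S0044
import Cfsg.Agent.S0009
import Cfsg.Agent.OddOrderLocal.HallPi
import Cfsg.Agent.OddOrderLocal.DecompBasic
import Mathlib.GroupTheory.PGroup
import Mathlib.GroupTheory.SpecificGroups.Cyclic
import Cfsg.Agent.Lib.Cores
import Cfsg.Prelude.Def_Amalgam
import Cfsg.Agent.Lib.SylowNormalInf
import Cfsg.Agent.Lib.MinNormalNonabelian
import Cfsg.Agent.FastGrp
import Cfsg.Agent.Prune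
set_option linter.all false

section
prune_inst 0x7ffcfef8adb8a5deffff7e7ffff1dffc39d5dfffffdff943ffe9ebffdfff23672bc5fbaf1de498ffded7e0b430b87813f9ffca3feb6bdc7ffffd5ff45ffbee1fe5ffbd8931d49c340f7c6ffefbf37fbfffffffffffffffffffffffffffffffffffffffffffff

-- part: H370/Spec
section
prune_inst 0x1000412001a2100000000000800020000000000000000001410000000000800200000000000000100000a00000040000020800400010000000000000000001200022440022000008200010000000000000000000000000000000000000000000000000000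
set_option linter.all false
open scoped Cfsg.Agent.FastGrp

-- part: H370/Smooth
section
/-!
# Numbers all of whose prime divisors divide the order of `J₄` (helper370)
-/

set_option autoImplicit false

namespace Cfsg.Agent.H370

/-- the prime divisors of `|J₄|` -/
def piJ : List ℕ := [2, 3, 5, 7, 11, 23, 29, 31, 37, 43]

/-- the big ones -/
def bigP : List ℕ := [23, 29, 31, 37, 43]

/-- product of `piJ` -/
def MJ : ℕ := 2 * 3 * 5 * 7 * 11 * 23 * 29 * 31 * 37 * 43

def Smooth (n : ℕ) : Prop := ∀ r : ℕ, r.Prime → r ∣ n → r ∈ piJ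

theorem Smooth.of_dvd {m n : ℕ} (h : Smooth n) (hd : m ∣ n) : Smooth m := fun r hr hrm => h r hr (hrm.trans hd)

theorem Smooth.mul {m n : ℕ} (hm : Smooth m) (hn : Smooth n) : Smooth (m * n) := fun r hr hrm =>
  ((hr.dvd_mul).1 hrm).elim (hm r hr) (hn r hr)

theorem dvd_MJ : ∀ r ∈ piJ, r ∣ MJ := by decide +kernel

theorem prime_piJ : ∀ r ∈ piJ, r.Prime := by
  intro r hr
  simp only [piJ, List.mem_cons, List.not_mem_nil, or_false] at hr
  rcases hr with rfl | rfl | rfl | rfl | rfl | rfl | rfl | rfl | rfl | rfl <;> norm_num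

theorem le_of_mem_piJ : ∀ r ∈ piJ, r ≤ 43 := by decide +kernel

theorem bigP_sub : ∀ r ∈ bigP, r ∈ piJ := by decide +kernel

/-- a smooth number divides a power of `MJ` -/
theorem Smooth.dvd_pow {n K : ℕ} (h : Smooth n) (h0 : n ≠ 0) (hK : n < 2 ^ K) : n ∣ MJ ^ K := by
  have hM : MJ ≠ 0 := by decide
  rw [← Nat.factorization_le_iff_dvd h0 (pow_ne_zero K hM)]
  intro r
  by_cases hr : r.Prime
  · by_cases hrn : r ∣ n
    · have h1 := dvd_MJ r (h r hr hrn)
      have h2 : 1 ≤ MJ.factorization r := (hr.dvd_iff_one_le_factorization hM).1 h1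
      have h3 : r ^ n.factorization r ≤ n := Nat.le_of_dvd (Nat.pos_of_ne_zero h0) (Nat.ordProj_dvd n r)
      have h4 : 2 ^ n.factorization r ≤ r ^ n.factorization r := Nat.pow_le_pow_left hr.two_le _
      have h5 : n.factorization r < K := (Nat.pow_lt_pow_iff_right (by norm_num : 1 < 2)).1 (lt_of_le_of_lt (h4.trans h3) hK)
      rw [Nat.factorization_pow, Finsupp.smul_apply, smul_eq_mul]
      nlinarith only [h2, h5]
    · rw [Nat.factorization_eq_zero_of_not_dvd hrn]
      exact Nat.zero_le _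
  · rw [Nat.factorization_eq_zero_of_not_prime _ hr]
    exact Nat.zero_le _

/-- Boolean smoothness test, complete for `n < 2 ^ 256` -/
def sm (n : ℕ) : Bool := MJ ^ 256 % n == 0

theorem Smooth.sm {n : ℕ} (h : Smooth n) (h0 : n ≠ 0) (hK : n < 2 ^ 256) : sm n = true := by
  have := h.dvd_pow h0 hK
  unfold H370.sm
  rw [Nat.mod_eq_zero_of_dvd this]
  rfl

/-- prime powers `q` with `q² - 1` smooth -/
def Qlist : List ℕ := [2, 3, 4, 5, 7, 8, 9, 11, 23, 29, 31, 32, 43, 49, 125, 1849]

theorem check : ∀ p ∈ piJ, ∀ f ∈ List.range 22, f ≠ 0 → sm (p ^ (2 * f) - 1) = true → p ^ f ∈ Qlist := by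
  decide +kernel

theorem lt_bound : ∀ p ∈ piJ, ∀ f ∈ List.range 22, p ^ (2 * f) - 1 < 2 ^ 256 := by decide +kernel

theorem mem_Qlist {p f : ℕ} (hp : p ∈ piJ) (hf : f ≠ 0) (h : Smooth (p ^ (2 * f) - 1)) : p ^ f ∈ Qlist := by
  have hpp := prime_piJ p hp
  have hb : f < 22 := by
    by_cases h1 : f = 1
    · omega
    by_cases h3 : f = 3
    · omega
    obtain ⟨r, hr, h4, h5, -⟩ := Lib.Zsigmondy.exists_primitive (a := p) (n := 2 * f) hpp.two_le (by omega)
      (by omega) (by omega)
    have h6 : r ∈ piJ := h r hr ((h4 (2 * f)).2 dvd_rfl)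
    have h7 := le_of_mem_piJ r h6
    have h8 : 2 * f ≤ r - 1 := Nat.le_of_dvd (by have := hr.two_le; omega) h5
    omega
  have h1 : 1 < p ^ (2 * f) := Nat.one_lt_pow (by omega) hpp.one_lt
  exact check p hp f (List.mem_range.2 hb) hf (h.sm (by omega) (lt_bound p hp f (List.mem_range.2 hb)))

/-- the list of the prime powers with `q² - 1` smooth -/
theorem mem_Qlist' {q : ℕ} (hq : IsPrimePow q) (h : Smooth q) (h2 : Smooth (q ^ 2 - 1)) : q ∈ Qlist := by
  obtain ⟨p, f, hp, hf, rfl⟩ := (isPrimePow_nat_iff q).1 hq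
  have hpm : p ∈ piJ := h p hp (dvd_pow_self p (by omega))
  exact mem_Qlist hpm (by omega) (by rwa [← pow_mul, mul_comm f 2] at h2)

/-- at most one member of `bigP` divides `n` -/
def atMostOne (n : ℕ) : Bool := (bigP.filter fun p => n % p == 0).length ≤ 1

theorem not_two {n p q : ℕ} (h : atMostOne n = true) (hp : p ∈ bigP) (hq : q ∈ bigP) (hpq : p ≠ q) (hpn : p ∣ n)
    (hqn : q ∣ n) : False := by
  unfold atMostOne at h
  rw [decide_eq_true_eq] at h
  have h1 : p ∈ bigP.filter fun p => n % p == 0 := by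
    rw [List.mem_filter]
    exact ⟨hp, by simpa using Nat.mod_eq_zero_of_dvd hpn⟩
  have h2 : q ∈ bigP.filter fun p => n % p == 0 := by
    rw [List.mem_filter]
    exact ⟨hq, by simpa using Nat.mod_eq_zero_of_dvd hqn⟩
  rcases hl : bigP.filter fun p => n % p == 0 with _ | ⟨a, _ | ⟨b, l⟩⟩
  · rw [hl] at h1
    exact absurd h1 List.not_mem_nil
  · rw [hl, List.mem_singleton] at h1 h2
    exact hpq (h1.trans h2.symm)
  · rw [hl] at h
    simp at h

end Cfsg.Agent.H370
end

-- part: H370/Act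
section
/-!
# Coprime action lemmas inside an ambient finite group (helper370)
-/

set_option autoImplicit false
set_option linter.unusedSectionVars false

namespace Cfsg.Agent.H370.Act

open Subgroup

variable {G : Type*} [Group G] [Finite G]

theorem conj_mem {K : Subgroup G} {x k : G} (hx : x ∈ normalizer (K : Set G)) (hk : k ∈ K) : x * k * x⁻¹ ∈ K :=
  (mem_normalizer_iff.1 hx k).1 hk

/-- the fixed points of `y` in `K` -/
def cen (K : Subgroup G) (y : G) : Subgroup G := K ⊓ centralizer ({y} : Set G)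

theorem mem_cen {K : Subgroup G} {y k : G} : k ∈ cen K y ↔ k ∈ K ∧ y * k = k * y := by
  unfold cen
  rw [mem_inf, mem_centralizer_singleton_iff]
  exact and_congr_right fun _ => eq_comm

theorem cen_le {K : Subgroup G} {y : G} : cen K y ≤ K := inf_le_left

/-- an element commuting with `y` and normalising `K` normalises `cen K y` -/
theorem mem_normalizer_cen {K : Subgroup G} {y x : G} (hx : x ∈ normalizer (K : Set G)) (hxy : y * x = x * y) :
    x ∈ normalizer (cen K y : Set G) := by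
  rw [mem_normalizer_iff]
  intro k
  have hxy' : y * x⁻¹ = x⁻¹ * y := by
    have : x⁻¹ * (y * x) * x⁻¹ = x⁻¹ * (x * y) * x⁻¹ := by rw [hxy]
    simpa only [mul_assoc, _root_.inv_mul_cancel_left, _root_.mul_inv_cancel, _root_.mul_one] using this.symm
  constructor
  · intro hk
    obtain ⟨h1, h2⟩ := mem_cen.1 hk
    refine mem_cen.2 ⟨(mem_normalizer_iff.1 hx k).1 h1, ?_⟩
    calc y * (x * k * x⁻¹) = (y * x) * k * x⁻¹ := by group
      _ = x * (y * k) * x⁻¹ := by rw [hxy]; group
      _ = x * k * (y * x⁻¹) := by rw [h2]; group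
      _ = x * k * x⁻¹ * y := by rw [hxy']; group
  · intro hk
    obtain ⟨h1, h2⟩ := mem_cen.1 hk
    refine mem_cen.2 ⟨(mem_normalizer_iff.1 hx k).2 h1, ?_⟩
    have h3 : x⁻¹ * (y * (x * k * x⁻¹)) * x = x⁻¹ * (x * k * x⁻¹ * y) * x := by rw [h2]
    have h4 : x⁻¹ * (y * (x * k * x⁻¹)) * x = y * k := by
      calc x⁻¹ * (y * (x * k * x⁻¹)) * x = (x⁻¹ * y) * x * k := by group
        _ = y * k := by rw [← hxy']; group
    have h5 : x⁻¹ * (x * k * x⁻¹ * y) * x = k * y := by
      calc x⁻¹ * (x * k * x⁻¹ * y) * x = k * (x⁻¹ * y) * x := by group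
        _ = k * y := by rw [← hxy']; group
    rw [h4, h5] at h3
    exact h3

theorem exists_ne_one {K : Subgroup G} (h : K ≠ ⊥) : ∃ k ∈ K, k ≠ 1 := (ne_bot_iff_exists_ne_one).1 h |>.elim
  fun k hk => ⟨k.1, k.2, fun h1 => hk (Subtype.ext h1)⟩

theorem ne_bot_of {K : Subgroup G} {k : G} (hk : k ∈ K) (h1 : k ≠ 1) : K ≠ ⊥ := by
  rintro rfl
  exact h1 (mem_bot.1 hk)

/-- a Frobenius group `U E` acting coprimely on `M`, with `U` not centralising `M` -/
theorem frob {U E M : Subgroup G} (hUE : E ≤ normalizer (U : Set G))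
    (hfpf : ∀ e ∈ E, e ≠ 1 → ∀ u ∈ U, e * u = u * e → u = 1) (hE : E ≠ ⊥)
    (hUM : U ≤ normalizer (M : Set G)) (hEM : E ≤ normalizer (M : Set G)) (hsol : Group.IsSolvable M)
    (hcop : (Nat.card M).Coprime (Nat.card U * Nat.card E)) (hnc : ¬ U ≤ centralizer (M : Set G)) :
    ∃ m ∈ M, m ≠ 1 ∧ ∀ e ∈ E, e * m = m * e := by
  by_contra hno
  push Not at hno
  have hU1 : U ≠ ⊥ := by
    rintro rfl
    exact hnc bot_le
  have hdisj0 : U ⊓ E = ⊥ := by
    rw [eq_bot_iff]
    intro x hx
    obtain ⟨h1, h2⟩ := mem_inf.1 hx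
    rw [mem_bot]
    by_contra h
    exact h (hfpf x h2 h x h1 rfl)
  have hcop' : (Nat.card M).Coprime (Nat.card ↥(U ⊔ E)) := by
    have h1 := OddOrderLocal.DecompBasic.card_sup_dvd hUE
    rw [sup_comm E U, mul_comm] at h1
    exact Nat.Coprime.coprime_dvd_right h1 hcop
  have hn : ∀ x ∈ U ⊔ E, ∀ h ∈ M, x * h * x⁻¹ ∈ M := fun x hx h hh =>
    conj_mem ((sup_le hUM hEM) hx) hh
  have hdisj : M ⊓ (U ⊔ E) = ⊥ := inf_eq_bot_of_coprime hcop'
  have key := S1545.result U E M hU1 hE hdisj0 (fun e he u hu => conj_mem (hUE he) hu) hfpf hn hdisj hsol hcop'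
  have hCE : M ⊓ centralizer (E : Set G) = ⊥ := by
    rw [eq_bot_iff]
    intro m hm
    obtain ⟨h1, h2⟩ := mem_inf.1 hm
    rw [mem_bot]
    by_contra h
    obtain ⟨e, he, hne⟩ := hno m h1 h
    exact hne (mem_centralizer_iff.1 h2 e he)
  have hCUE : M ⊓ centralizer ((U ⊔ E : Subgroup G) : Set G) = ⊥ := by
    rw [eq_bot_iff, ← hCE]
    exact inf_le_inf le_rfl (centralizer_le (by exact_mod_cast (le_sup_right : E ≤ U ⊔ E)))
  rw [hCE, hCUE, card_bot, one_pow, one_mul, one_mul] at key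
  have h1 : M ⊓ centralizer (U : Set G) = M := eq_of_le_of_card_ge inf_le_left key.le
  apply hnc
  intro u hu
  rw [mem_centralizer_iff]
  intro m hm
  have h2 : m ∈ centralizer (U : Set G) := (mem_inf.1 (h1.symm ▸ hm : m ∈ M ⊓ centralizer (U : Set G))).2
  exact (mem_centralizer_iff.1 h2 u hu).symm

/-- powers of an element of prime order -/
theorem mem_zpowers_of_prime {y e : G} {s : ℕ} (hs : s.Prime) (hy : orderOf y = s) (he : e ∈ zpowers y)
    (h1 : e ≠ 1) : y ∈ zpowers e := by
  have hc : Nat.card (zpowers y) = s := by rw [Nat.card_zpowers, hy]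
  have h2 : zpowers e ≤ zpowers y := zpowers_le.2 he
  have h3 : Nat.card (zpowers e) ∣ s := hc ▸ card_dvd_of_le h2
  rcases (Nat.dvd_prime hs).1 h3 with h4 | h4
  · rw [Nat.card_zpowers, orderOf_eq_one_iff] at h4
    exact absurd h4 h1
  · have h5 : zpowers e = zpowers y := eq_of_le_of_card_ge h2 (by rw [hc, h4])
    rw [h5]
    exact mem_zpowers y

theorem comm_of_mem_zpowers {e y u : G} (hy : y ∈ zpowers e) (h : e * u = u * e) : y * u = u * y := by
  obtain ⟨n, rfl⟩ := mem_zpowers_iff.1 hy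
  exact (Commute.zpow_left (show Commute e u from h) n).eq

theorem frob1 {U M : Subgroup G} {y : G} {s : ℕ} (hs : s.Prime) (hy : orderOf y = s)
    (hyU : y ∈ normalizer (U : Set G)) (hfpf : ∀ u ∈ U, y * u = u * y → u = 1)
    (hUM : U ≤ normalizer (M : Set G)) (hyM : y ∈ normalizer (M : Set G)) (hsol : Group.IsSolvable M)
    (hcop : (Nat.card M).Coprime (Nat.card U * s)) (hnc : ¬ U ≤ centralizer (M : Set G)) :
    ∃ m ∈ M, m ≠ 1 ∧ y * m = m * y := by
  obtain ⟨m, h1, h2, h3⟩ := frob (U := U) (E := zpowers y) (M := M) (zpowers_le.2 hyU)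
    (fun e he he1 u hu heu => hfpf u hu (comm_of_mem_zpowers (mem_zpowers_of_prime hs hy he he1) heu))
    (fun h => by
      rw [zpowers_eq_bot] at h
      rw [h, orderOf_one] at hy
      exact hs.one_lt.ne hy)
    hUM (zpowers_le.2 hyM) hsol (by rw [Nat.card_zpowers, hy]; exact hcop) hnc
  exact ⟨m, h1, h2, h3 y (mem_zpowers y)⟩

theorem frob2 {U M : Subgroup G} {a b : G} {s t : ℕ} (hs : s.Prime) (ht : t.Prime) (hst : s ≠ t)
    (ha : orderOf a = s) (hb : orderOf b = t) (hab : a * b = b * a)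
    (haU : a ∈ normalizer (U : Set G)) (hbU : b ∈ normalizer (U : Set G))
    (hfa : ∀ u ∈ U, a * u = u * a → u = 1) (hfb : ∀ u ∈ U, b * u = u * b → u = 1)
    (hUM : U ≤ normalizer (M : Set G)) (haM : a ∈ normalizer (M : Set G)) (hbM : b ∈ normalizer (M : Set G))
    (hsol : Group.IsSolvable M)
    (hcop : (Nat.card M).Coprime (Nat.card U * (s * t))) (hnc : ¬ U ≤ centralizer (M : Set G)) :
    ∃ m ∈ M, m ≠ 1 ∧ a * m = m * a ∧ b * m = m * b := by
  have hcab : Commute a b := hab
  have hcst : Nat.Coprime s t := (Nat.coprime_primes hs ht).2 hst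
  have hord : orderOf (a * b) = s * t := by
    rw [hcab.orderOf_mul_eq_mul_orderOf_of_coprime (by rw [ha, hb]; exact hcst), ha, hb]
  have hpa : ∀ i : ℤ, a ^ i ≠ 1 → a ∈ zpowers ((a * b) ^ i) := by
    intro i hi
    have h1 : ((a * b) ^ i) ^ (t : ℤ) = a ^ (i * t) := by
      rw [hcab.mul_zpow, (hcab.zpow_zpow i i).mul_zpow, ← zpow_mul, ← zpow_mul]
      have : b ^ (i * (t : ℤ)) = 1 := by
        rw [mul_comm, zpow_mul, zpow_natCast, ← hb, pow_orderOf_eq_one, one_zpow]
      rw [this, mul_one]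
    have h2 : a ^ (i * t) ≠ 1 := by
      intro h
      apply hi
      have h3 : (orderOf a : ℤ) ∣ i * t := orderOf_dvd_iff_zpow_eq_one.2 h
      rw [ha] at h3
      have h4 : (s : ℤ) ∣ i := (Nat.isCoprime_iff_coprime.2 hcst).dvd_of_dvd_mul_right h3
      exact orderOf_dvd_iff_zpow_eq_one.1 (by rw [ha]; exact h4)
    have h5 : a ∈ zpowers (a ^ (i * t)) := mem_zpowers_of_prime hs ha (zpow_mem (mem_zpowers a) _) h2
    rw [← h1] at h5
    exact (zpowers_le.2 (zpow_mem (mem_zpowers _) _)) h5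
  have hpb : ∀ i : ℤ, b ^ i ≠ 1 → b ∈ zpowers ((a * b) ^ i) := by
    intro i hi
    have h1 : ((a * b) ^ i) ^ (s : ℤ) = b ^ (i * s) := by
      rw [hcab.mul_zpow, (hcab.zpow_zpow i i).mul_zpow, ← zpow_mul, ← zpow_mul]
      have : a ^ (i * (s : ℤ)) = 1 := by
        rw [mul_comm, zpow_mul, zpow_natCast, ← ha, pow_orderOf_eq_one, one_zpow]
      rw [this, one_mul]
    have h2 : b ^ (i * s) ≠ 1 := by
      intro h
      apply hi
      have h3 : (orderOf b : ℤ) ∣ i * s := orderOf_dvd_iff_zpow_eq_one.2 h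
      rw [hb] at h3
      have h4 : (t : ℤ) ∣ i := (Nat.isCoprime_iff_coprime.2 hcst.symm).dvd_of_dvd_mul_right h3
      exact orderOf_dvd_iff_zpow_eq_one.1 (by rw [hb]; exact h4)
    have h5 : b ∈ zpowers (b ^ (i * s)) := mem_zpowers_of_prime ht hb (zpow_mem (mem_zpowers b) _) h2
    rw [← h1] at h5
    exact (zpowers_le.2 (zpow_mem (mem_zpowers _) _)) h5
  obtain ⟨m, h1, h2, h3⟩ := frob (U := U) (E := zpowers (a * b)) (M := M)
    (zpowers_le.2 (mul_mem haU hbU))
    (fun e he he1 u hu heu => by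
      obtain ⟨i, rfl⟩ := mem_zpowers_iff.1 he
      by_cases hai : a ^ i = 1
      · have hbi : b ^ i ≠ 1 := by
          intro h
          apply he1
          rw [hcab.mul_zpow, hai, h, one_mul]
        exact hfb u hu (comm_of_mem_zpowers (hpb i hbi) heu)
      · exact hfa u hu (comm_of_mem_zpowers (hpa i hai) heu))
    (fun h => by
      rw [zpowers_eq_bot, ← orderOf_eq_one_iff, hord] at h
      have := hs.one_lt
      have := ht.one_lt
      nlinarith)
    hUM (zpowers_le.2 (mul_mem haM hbM)) hsol (by rw [Nat.card_zpowers, hord]; exact hcop) hnc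
  have ha1 : a ^ (1 : ℤ) ≠ 1 := by
    rw [zpow_one]
    rintro rfl
    rw [orderOf_one] at ha
    exact hs.one_lt.ne ha
  have hb1 : b ^ (1 : ℤ) ≠ 1 := by
    rw [zpow_one]
    rintro rfl
    rw [orderOf_one] at hb
    exact ht.one_lt.ne hb
  have h4 := h3 (a * b) (mem_zpowers _)
  have h5 := hpa 1 ha1
  have h6 := hpb 1 hb1
  rw [zpow_one] at h5 h6
  exact ⟨m, h1, h2, comm_of_mem_zpowers h5 h4, comm_of_mem_zpowers h6 h4⟩

/-- generation: a set centralising all `cen K e`, `e ∈ E`, `e ≠ 1`, centralises `K` -/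
theorem centralizes_of_gen {E K D : Subgroup G} (hE : ∀ a ∈ E, ∀ b ∈ E, a * b = b * a) (hcyc : ¬ IsCyclic E)
    (hEK : E ≤ normalizer (K : Set G)) (hcop : (Nat.card E).Coprime (Nat.card K))
    (h : ∀ e ∈ E, e ≠ 1 → D ≤ centralizer (cen K e : Set G)) : D ≤ centralizer (K : Set G) := by
  have : IsMulCommutative E := ⟨⟨fun a b => Subtype.ext (hE a a.2 b b.2)⟩⟩
  have key := S0058.result E K hcyc hEK hcop
  rw [le_centralizer_iff]
  rw [← key]
  refine iSup₂_le fun e he => ?_
  rw [le_centralizer_iff]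
  exact h e he.1 he.2

theorem exists_fixed {E K : Subgroup G} (hE : ∀ a ∈ E, ∀ b ∈ E, a * b = b * a) (hcyc : ¬ IsCyclic E)
    (hEK : E ≤ normalizer (K : Set G)) (hcop : (Nat.card E).Coprime (Nat.card K)) (hK : K ≠ ⊥) :
    ∃ e ∈ E, e ≠ 1 ∧ cen K e ≠ ⊥ := by
  by_contra hno
  push Not at hno
  have : IsMulCommutative E := ⟨⟨fun a b => Subtype.ext (hE a a.2 b b.2)⟩⟩
  have key := S0058.result E K hcyc hEK hcop
  apply hK
  rw [← key, eq_bot_iff]
  refine iSup₂_le fun e he => ?_
  exact (hno e he.1 he.2).le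

end Cfsg.Agent.H370.Act
end

-- part: H370/Zed
section
/-!
# Coprime automorphisms of small-rank groups of prime exponent (helper370)
-/

set_option autoImplicit false
set_option linter.unusedSectionVars false

namespace Cfsg.Agent.H370.Act

open Subgroup

/-- the subgroup of fixed points -/
def fixS {W : Type*} [Group W] (α : MulAut W) : Subgroup W := (α.toMonoidHom).eqLocus (MonoidHom.id W)

theorem mem_fixS {W : Type*} [Group W] {α : MulAut W} {w : W} : w ∈ fixS α ↔ α w = w := Iff.rfl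

theorem count {W : Type*} [Group W] [Finite W] {α : MulAut W} {x k : ℕ} [Fact x.Prime] (h : α ^ x ^ k = 1) :
    Nat.card W ≡ Nat.card (fixS α) [MOD x] := by
  have hp : IsPGroup x (zpowers α) := by
    rintro ⟨β, hβ⟩
    obtain ⟨i, rfl⟩ := mem_zpowers_iff.1 hβ
    refine ⟨k, Subtype.ext ?_⟩
    change (α ^ i) ^ x ^ k = 1
    rw [← zpow_natCast, ← zpow_mul, mul_comm, zpow_mul, zpow_natCast, h, one_zpow]
  have h1 := hp.card_modEq_card_fixedPoints (α := W)
  have h2 : Nat.card (MulAction.fixedPoints (zpowers α) W) = Nat.card (fixS α) := by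
    apply Nat.card_congr
    refine Equiv.setCongr ?_
    ext w
    constructor
    · intro hw
      exact hw ⟨α, mem_zpowers α⟩
    · rintro (hw : α w = w) ⟨β, hβ⟩
      obtain ⟨i, rfl⟩ := mem_zpowers_iff.1 hβ
      change (α ^ i) w = w
      have h3 : α ∈ MulAction.stabilizer (MulAut W) w := hw
      exact zpow_mem h3 i
  rw [h2] at h1
  exact h1

theorem small {W : Type*} [Group W] [Finite W] {α : MulAut W} {x k y n : ℕ} [Fact x.Prime] (hy : y.Prime)
    (hxy : x ≠ y) (hx : ¬ x ∣ y ^ 2 - 1) (h : α ^ x ^ k = 1) (hW : Nat.card W ∣ y ^ n)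
    (hn : n ≤ 2 ∨ (n ≤ 3 ∧ y ∣ Nat.card (fixS α))) : ∀ w, α w = w := by
  have hxp : x.Prime := Fact.out
  obtain ⟨i, hi, hWi⟩ := (Nat.dvd_prime_pow hy).1 hW
  have h1 : Nat.card (fixS α) ∣ y ^ i := hWi ▸ card_subgroup_dvd_card _
  obtain ⟨j, hj, hFj⟩ := (Nat.dvd_prime_pow hy).1 h1
  have h2 := count h
  rw [hWi, hFj] at h2
  have hij : i = j := by
    by_contra hne
    have hlt : j < i := by omega
    obtain ⟨d, rfl⟩ : ∃ d, i = j + d := ⟨i - j, by omega⟩
    have hd : d = 1 ∨ d = 2 := by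
      rcases hn with hn | ⟨hn, hyF⟩
      · omega
      · have : 1 ≤ j := by
          by_contra h0
          have : j = 0 := by omega
          subst this
          rw [hFj, pow_zero, Nat.dvd_one] at hyF
          exact hy.one_lt.ne' hyF
        omega
    have h3 : x ∣ y ^ (j + d) - y ^ j := (Nat.modEq_iff_dvd' (Nat.pow_le_pow_right hy.pos (by omega))).1 h2.symm
    have h4 : y ^ (j + d) - y ^ j = y ^ j * (y ^ d - 1) := by rw [pow_add, Nat.mul_sub, mul_one]
    rw [h4] at h3
    rcases (hxp.dvd_mul).1 h3 with h5 | h5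
    · exact hxy ((Nat.prime_dvd_prime_iff_eq hxp hy).1 (hxp.dvd_of_dvd_pow h5))
    · apply hx
      rcases hd with rfl | rfl
      · exact h5.trans (by simpa only [_root_.pow_one, _root_.one_pow] using Nat.sub_dvd_pow_sub_pow y 1 2)
      · exact h5
  subst hij
  have h3 : fixS α = ⊤ := eq_top_of_card_eq _ (by rw [hFj, hWi])
  intro w
  exact mem_fixS.1 (h3 ▸ mem_top w)

theorem card_lt_card {Y : Type*} [Group Y] [Finite Y] {H K : Subgroup Y} (h : H < K) : Nat.card H < Nat.card K := by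
  by_contra h1
  exact h.ne (eq_of_le_of_card_ge h.le (by omega))

/-- adding a commuting element to a commutative subgroup -/
theorem comm_sup {Y : Type*} [Group Y] {E : Subgroup Y} (hE : ∀ a ∈ E, ∀ b ∈ E, a * b = b * a) {c : Y}
    (hc : ∀ a ∈ E, a * c = c * a) : ∀ a ∈ E ⊔ zpowers c, ∀ b ∈ E ⊔ zpowers c, a * b = b * a := by
  have h1 : E ⊔ zpowers c ≤ centralizer ((E ⊔ zpowers c : Subgroup Y) : Set Y) := by
    refine sup_le ?_ (zpowers_le.2 ?_)
    · rw [le_centralizer_iff]
      refine sup_le ?_ (zpowers_le.2 ?_)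
      · intro a ha
        rw [mem_centralizer_iff]
        intro b hb
        exact hE b hb a ha
      · rw [mem_centralizer_iff]
        intro a ha
        exact hc a ha
    · rw [mem_centralizer_iff]
      have h2 : E ⊔ zpowers c ≤ centralizer ({c} : Set Y) := by
        refine sup_le ?_ (zpowers_le.2 ?_)
        · intro a ha
          rw [mem_centralizer_singleton_iff]
          exact hc a ha
        · rw [mem_centralizer_singleton_iff]
      intro a ha
      exact mem_centralizer_singleton_iff.1 (h2 ha)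
  intro a ha b hb
  exact (mem_centralizer_iff.1 (h1 ha) b hb).symm

theorem exists_card_pow {Y : Type*} [Group Y] [Finite Y] {y n m : ℕ} [Fact y.Prime] (E : Subgroup Y)
    (hE : Nat.card E = y ^ n) (hm : m ≤ n) : ∃ E' ≤ E, Nat.card E' = y ^ m := by
  obtain ⟨K, hK⟩ := Sylow.exists_subgroup_card_pow_prime (G := E) y (n := m) (by rw [hE]; exact pow_dvd_pow y hm)
  exact ⟨K.map E.subtype, map_subtype_le K, by
    rw [← hK]
    exact (Nat.card_congr (K.equivMapOfInjective E.subtype E.subtype_injective).toEquiv).symm⟩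

/-- **Lemma Z**, abstract form. -/
theorem aut_trivial {Y : Type*} [Group Y] [Finite Y] {α : MulAut Y} {x k y : ℕ} [Fact x.Prime] [Fact y.Prime]
    (hxy : x ≠ y) (hx : ¬ x ∣ y ^ 2 - 1) (hexp : ∀ g : Y, g ^ y = 1)
    (hno : ∀ E : Subgroup Y, (∀ a ∈ E, ∀ b ∈ E, a * b = b * a) → Nat.card E ≠ y ^ 3) (h : α ^ x ^ k = 1) :
    ∀ g, α g = g := by
  have hy : y.Prime := Fact.out
  have hpY : IsPGroup y Y := fun g => ⟨1, by rw [pow_one]; exact hexp g⟩
  have hno' : ∀ E : Subgroup Y, (∀ a ∈ E, ∀ b ∈ E, a * b = b * a) → ∃ m ≤ 2, Nat.card E = y ^ m := by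
    intro E hE
    obtain ⟨n, hn⟩ := (hpY.to_subgroup E).exists_card_eq
    refine ⟨n, ?_, hn⟩
    by_contra h3
    obtain ⟨E', hE', hc⟩ := exists_card_pow (m := 3) E hn (by omega)
    exact hno E' (fun a ha b hb => hE a (hE' ha) b (hE' hb)) hc
  obtain ⟨n, hn⟩ := hpY.exists_card_eq
  by_cases hcomm : ∀ a b : Y, a * b = b * a
  · obtain ⟨m, hm, hc⟩ := hno' ⊤ (fun a _ b _ => hcomm a b)
    rw [card_top] at hc
    exact small hy hxy hx h (n := m) (by rw [hc]) (Or.inl hm)
  push Not at hcomm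
  obtain ⟨a₀, b₀, hab₀⟩ := hcomm
  have hnt : Nontrivial Y := ⟨a₀, b₀, fun h => hab₀ (by rw [h])⟩
  have hZt : center Y ≠ ⊤ := fun h => hab₀ ((mem_center_iff.1 (h ▸ mem_top b₀ : b₀ ∈ center Y)) a₀)
  have hZnt : Nontrivial (center Y) := hpY.center_nontrivial
  obtain ⟨m, hm, hZc⟩ := hno' (center Y) (fun a _ b hb => mem_center_iff.1 hb a)
  have hm1 : m ≠ 0 := by
    rintro rfl
    rw [pow_zero, card_eq_one] at hZc
    exact (nontrivial_iff_ne_bot _).1 hZnt hZc
  -- the quotient by the centre has nontrivial centre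
  have hQnt : Nontrivial (Y ⧸ center Y) := by
    rw [← not_subsingleton_iff_nontrivial]
    intro hs
    exact hZt (index_eq_one.1 (Nat.card_eq_one_iff_unique.2 ⟨hs, ⟨1⟩⟩))
  have hQc : Nontrivial (center (Y ⧸ center Y)) := (hpY.to_quotient (center Y)).center_nontrivial
  obtain ⟨⟨c, hc⟩, hc1⟩ := exists_ne (1 : center (Y ⧸ center Y))
  obtain ⟨a, rfl⟩ := QuotientGroup.mk_surjective c
  have haZ : a ∉ center Y := fun h => hc1 (Subtype.ext ((QuotientGroup.eq_one_iff a).2 h))
  have hf : ∀ g : Y, g * a * g⁻¹ * a⁻¹ ∈ center Y := by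
    intro g
    rw [← QuotientGroup.eq_one_iff]
    have := mem_center_iff.1 hc (g : Y ⧸ center Y)
    rw [QuotientGroup.mk_mul, QuotientGroup.mk_mul, QuotientGroup.mk_mul, this]
    simp
  let f : Y →* center Y :=
    { toFun := fun g => ⟨g * a * g⁻¹ * a⁻¹, hf g⟩
      map_one' := Subtype.ext (by simp)
      map_mul' := fun g h => Subtype.ext (by
        change g * h * a * (g * h)⁻¹ * a⁻¹ = (g * a * g⁻¹ * a⁻¹) * (h * a * h⁻¹ * a⁻¹)
        have h1 := mem_center_iff.1 (hf h)
        calc g * h * a * (g * h)⁻¹ * a⁻¹ = g * (h * a * h⁻¹ * a⁻¹) * a * g⁻¹ * a⁻¹ := by group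
          _ = (h * a * h⁻¹ * a⁻¹) * g * a * g⁻¹ * a⁻¹ := by rw [h1 g]
          _ = (h * a * h⁻¹ * a⁻¹) * (g * a * g⁻¹ * a⁻¹) := by group
          _ = _ := (h1 _).symm) }
  have hker : f.ker = centralizer ({a} : Set Y) := by
    ext g
    rw [MonoidHom.mem_ker, mem_centralizer_singleton_iff]
    constructor
    · intro h
      have h1 : g * a * g⁻¹ * a⁻¹ = 1 := congrArg Subtype.val h
      have h2 : g * a * g⁻¹ * a⁻¹ * a * g = 1 * a * g := by rw [h1]
      simpa only [mul_assoc, _root_.inv_mul_cancel, _root_.mul_one, _root_.one_mul] using h2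
    · intro h
      refine Subtype.ext ?_
      change g * a * g⁻¹ * a⁻¹ = 1
      rw [h]
      group
  -- the abelian subgroup generated by the centre and `a`
  have hE2 := comm_sup (E := center Y) (c := a) (fun u _ v hv => mem_center_iff.1 hv u)
    (fun u hu => (mem_center_iff.1 hu a).symm)
  obtain ⟨m2, hm2, hE2c⟩ := hno' _ hE2
  have hlt : center Y < center Y ⊔ zpowers a := by
    refine lt_of_le_of_ne le_sup_left fun h => haZ ?_
    rw [h]
    exact mem_sup_right (mem_zpowers a)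
  have hcardlt := card_lt_card hlt
  rw [hZc, hE2c] at hcardlt
  have hmm2 : m < m2 := (Nat.pow_lt_pow_iff_right hy.one_lt).1 hcardlt
  have hm' : m = 1 := by omega
  have hm2' : m2 = 2 := by omega
  subst hm' hm2'
  have hcent : centralizer ({a} : Set Y) ≤ center Y ⊔ zpowers a := by
    intro c hc
    by_contra hcE
    have hE3 := comm_sup (E := center Y ⊔ zpowers a) (c := c) hE2 (by
      have : center Y ⊔ zpowers a ≤ centralizer ({c} : Set Y) := by
        refine sup_le (fun u hu => ?_) (zpowers_le.2 ?_)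
        · rw [mem_centralizer_singleton_iff]
          exact (mem_center_iff.1 hu c).symm
        · rw [mem_centralizer_singleton_iff]
          rw [mem_centralizer_singleton_iff] at hc
          exact hc.symm
      exact fun u hu => mem_centralizer_singleton_iff.1 (this hu))
    obtain ⟨m3, hm3, hE3c⟩ := hno' _ hE3
    have hlt3 : center Y ⊔ zpowers a < center Y ⊔ zpowers a ⊔ zpowers c := by
      refine lt_of_le_of_ne le_sup_left fun h => hcE ?_
      rw [h]
      exact mem_sup_right (mem_zpowers c)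
    have hcardlt3 := card_lt_card hlt3
    rw [hE2c, hE3c] at hcardlt3
    have := (Nat.pow_lt_pow_iff_right hy.one_lt).1 hcardlt3
    omega
  have hYcard : Nat.card Y ∣ y ^ 3 := by
    have h1 := card_eq_card_quotient_mul_card_subgroup f.ker
    have h2 : Nat.card (Y ⧸ f.ker) ∣ y ^ 1 := by
      rw [Nat.card_congr (QuotientGroup.quotientKerEquivRange f).toEquiv, ← hZc]
      exact card_subgroup_dvd_card _
    have h3 : Nat.card f.ker ∣ y ^ 2 := by
      rw [hker, ← hE2c]
      exact card_dvd_of_le hcent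
    rw [h1]
    exact (Nat.mul_dvd_mul h2 h3).trans (by rw [← pow_add])
  -- `α` fixes the centre
  have hαZ : ∀ g, α g ∈ center Y ↔ g ∈ center Y := by
    intro g
    rw [mem_center_iff, mem_center_iff]
    constructor
    · intro h1 u
      apply α.injective
      rw [map_mul, map_mul]
      exact h1 (α u)
    · intro h1 u
      obtain ⟨v, rfl⟩ := α.surjective u
      rw [← map_mul, ← map_mul, h1 v]
  let β : MulAut (center Y) :=
    { toFun := fun z => ⟨α z, (hαZ z).2 z.2⟩
      invFun := fun z => ⟨α.symm z, (hαZ _).1 (by rw [α.apply_symm_apply]; exact z.2)⟩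
      left_inv := fun z => Subtype.ext (α.symm_apply_apply z)
      right_inv := fun z => Subtype.ext (α.apply_symm_apply z)
      map_mul' := fun z w => Subtype.ext (map_mul α (z : Y) (w : Y)) }
  have hβn : ∀ (n : ℕ) (z : center Y), (((β ^ n) z : center Y) : Y) = (α ^ n) (z : Y) := by
    intro n
    induction n with
    | zero => intro z; rfl
    | succ n ih =>
      intro z
      rw [pow_succ, pow_succ, MulAut.mul_apply, MulAut.mul_apply, ih]
      rfl
  have hβ : β ^ x ^ k = 1 := by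
    ext z
    rw [hβn, h]
    rfl
  have hZfix := small (α := β) (n := 1) hy hxy hx hβ (by rw [hZc]) (Or.inl (by norm_num))
  have hle : center Y ≤ fixS α := fun z hz => congrArg Subtype.val (hZfix ⟨z, hz⟩)
  refine small hy hxy hx h hYcard (Or.inr ⟨le_rfl, ?_⟩)
  have := card_dvd_of_le hle
  rw [hZc, pow_one] at this
  exact this

variable {G : Type*} [Group G] [Finite G]

/-- **Lemma Z**. -/
theorem zed {Y : Subgroup G} {z : G} {x k y : ℕ} (hxp : x.Prime) (hyp : y.Prime) (hxy : x ≠ y)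
    (hx : ¬ x ∣ y ^ 2 - 1) (hexp : ∀ g ∈ Y, g ^ y = 1)
    (hno : ∀ E ≤ Y, (∀ a ∈ E, ∀ b ∈ E, a * b = b * a) → Nat.card E ≠ y ^ 3) (hz : z ∈ normalizer (Y : Set G))
    (hzx : z ^ x ^ k = 1) : ∀ g ∈ Y, z * g = g * z := by
  have : Fact x.Prime := ⟨hxp⟩
  have : Fact y.Prime := ⟨hyp⟩
  let α : MulAut Y := normalizerMonoidHom Y ⟨z, hz⟩
  have hα : α ^ x ^ k = 1 := by
    rw [← map_pow]
    have : (⟨z, hz⟩ : normalizer (Y : Set G)) ^ x ^ k = 1 := Subtype.ext hzx
    rw [this, map_one]
  have key := aut_trivial (α := α) hxy hx (fun g => Subtype.ext (hexp g g.2)) (fun E hE hc => by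
    refine hno (E.map Y.subtype) (map_subtype_le E) ?_ ?_
    · rintro _ ⟨a, ha, rfl⟩ _ ⟨b, hb, rfl⟩
      exact congrArg Subtype.val (hE a ha b hb)
    · rw [← hc]
      exact (Nat.card_congr (E.equivMapOfInjective Y.subtype Y.subtype_injective).toEquiv).symm) hα
  intro g hg
  have h1 : z * g * z⁻¹ = g := congrArg Subtype.val (key ⟨g, hg⟩)
  calc z * g = z * g * z⁻¹ * z := by group
    _ = g * z := by rw [h1]

/-- the case of a subgroup of order at most `y` -/
theorem zed_cyc {Y : Subgroup G} {z : G} {x k y : ℕ} (hxp : x.Prime) (hyp : y.Prime) (hxy : x ≠ y)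
    (hx : ¬ x ∣ y ^ 2 - 1) (hexp : ∀ g ∈ Y, g ^ y = 1) (hno : Nat.card Y < y ^ 2)
    (hz : z ∈ normalizer (Y : Set G)) (hzx : z ^ x ^ k = 1) : ∀ g ∈ Y, z * g = g * z :=
  zed hxp hyp hxy hx hexp (fun E hE _ hc => by
    have h1 : Nat.card E ≤ Nat.card Y := card_le_of_le hE
    have h2 : y ^ 2 ≤ y ^ 3 := Nat.pow_le_pow_right hyp.pos (by norm_num)
    omega) hz hzx

/-- a subgroup of small index with nontrivial fixed points -/
theorem hyper {E K : Subgroup G} {x : ℕ} [Fact x.Prime] (hE : ∀ a ∈ E, ∀ b ∈ E, a * b = b * a)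
    (hexp : ∀ a ∈ E, a ^ x = 1) (hc : x ^ 2 ≤ Nat.card E) (hEK : E ≤ normalizer (K : Set G))
    (hK : ¬ x ∣ Nat.card K) (hK1 : K ≠ ⊥) :
    ∃ B ≤ E, B.relIndex E ≤ x ∧ ∃ k ∈ K, k ≠ 1 ∧ ∀ b ∈ B, b * k = k * b := by
  have hEl : Cfsg.IsElementaryAbelian x E := ⟨⟨⟨fun a b => Subtype.ext (hE a a.2 b b.2)⟩⟩, hexp⟩
  have key := S1324.result x E K hEl hc hK hEK
  by_contra hno
  push Not at hno
  apply hK1
  rw [key, eq_bot_iff]
  refine iSup_le fun B => ?_
  intro k hk
  rw [mem_bot]
  by_contra hk1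
  obtain ⟨h1, h2⟩ := mem_inf.1 hk
  obtain ⟨b, hb, hne⟩ := hno B.1 B.2.1 B.2.2 k h1 hk1
  exact hne (mem_centralizer_iff.1 h2 b hb)

/-- rank three: a common element with fixed points -/
theorem rank3 {E K₁ K₂ : Subgroup G} {x : ℕ} (hx : x.Prime) (hE : ∀ a ∈ E, ∀ b ∈ E, a * b = b * a)
    (hexp : ∀ a ∈ E, a ^ x = 1) (hc : x ^ 3 ≤ Nat.card E) (h1 : E ≤ normalizer (K₁ : Set G))
    (h2 : E ≤ normalizer (K₂ : Set G)) (hK₁ : ¬ x ∣ Nat.card K₁) (hK₂ : ¬ x ∣ Nat.card K₂) (h1' : K₁ ≠ ⊥)
    (h2' : K₂ ≠ ⊥) :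
    ∃ e ∈ E, e ≠ 1 ∧ (∃ k ∈ K₁, k ≠ 1 ∧ e * k = k * e) ∧ ∃ k ∈ K₂, k ≠ 1 ∧ e * k = k * e := by
  have : Fact x.Prime := ⟨hx⟩
  have hc2 : x ^ 2 ≤ Nat.card E := (Nat.pow_le_pow_right hx.pos (by norm_num)).trans hc
  obtain ⟨B₁, hB₁, hi₁, k₁, hk₁, hk₁', hf₁⟩ := hyper hE hexp hc2 h1 hK₁ h1'
  obtain ⟨B₂, hB₂, hi₂, k₂, hk₂, hk₂', hf₂⟩ := hyper hE hexp hc2 h2 hK₂ h2'
  have h3 : (B₁ ⊓ B₂).relIndex E ≤ x * x :=
    (relIndex_inf_le).trans (Nat.mul_le_mul hi₁ hi₂)
  have h4 : Nat.card ↥(B₁ ⊓ B₂) * (B₁ ⊓ B₂).relIndex E = Nat.card E := by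
    have := relIndex_mul_relIndex ⊥ (B₁ ⊓ B₂) E bot_le (inf_le_left.trans hB₁)
    rwa [relIndex_bot_left, relIndex_bot_left] at this
  have h5 : B₁ ⊓ B₂ ≠ ⊥ := by
    intro h
    rw [h, card_bot, one_mul, relIndex_bot_left] at h4
    rw [h, relIndex_bot_left] at h3
    have h6 : x ^ 3 = x * x * x := by ring
    have h7 := hx.one_lt
    nlinarith only [hc, h3, h7, Nat.mul_le_mul h7.le h7.le]
  obtain ⟨e, he, he1⟩ := exists_ne_one h5
  obtain ⟨he₁, he₂⟩ := mem_inf.1 he
  exact ⟨e, hB₁ he₁, he1, ⟨k₁, hk₁, hk₁', hf₁ e he₁⟩, ⟨k₂, hk₂, hk₂', hf₂ e he₂⟩⟩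

end Cfsg.Agent.H370.Act
end

-- part: H370/Spec
section
/-!
# Sets of element orders like that of `J₄ × J₄`; tools (helper370)
-/

set_option autoImplicit false
set_option linter.unusedSectionVars false

namespace Cfsg.Agent.H370

open Subgroup

/-- the properties of the spectrum of `J₄ × J₄` used in the recognition proof -/
structure JSpec (A : Set ℕ) : Prop where
  dvd : ∀ {m n : ℕ}, m ∣ n → n ∈ A → m ∈ A
  zero : 0 ∉ A
  smooth : ∀ r : ℕ, r.Prime → r ∈ A → r ∈ piJ
  sq : ∀ p ∈ bigP, p ^ 2 ∉ A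
  three : ∀ p ∈ bigP, ∀ q ∈ bigP, p ≠ q → ∀ r : ℕ, r.Prime → r ≠ p → r ≠ q → p * q * r ∉ A
  n25 : 25 ∉ A
  n32 : 32 ∉ A
  n616 : 616 ∉ A

/-- all element orders lie in `A` -/
def InS (A : Set ℕ) (G : Type*) [Group G] : Prop := ∀ g : G, orderOf g ∈ A

theorem InS.subgroup {A : Set ℕ} {G : Type*} [Group G] (h : InS A G) (H : Subgroup G) : InS A H := fun g => by
  rw [← Subgroup.orderOf_coe]
  exact h g

theorem InS.of_surjective {A : Set ℕ} (J : JSpec A) {G H : Type*} [Group G] [Group H] (h : InS A G) (f : G →* H)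
    (hf : Function.Surjective f) : InS A H := fun g => by
  obtain ⟨g, rfl⟩ := hf g
  exact J.dvd (orderOf_map_dvd f g) (h g)

theorem InS.quotient {A : Set ℕ} (J : JSpec A) {G : Type*} [Group G] (h : InS A G) (N : Subgroup G) [N.Normal] :
    InS A (G ⧸ N) := h.of_surjective J (QuotientGroup.mk' N) (QuotientGroup.mk'_surjective N)

theorem InS.of_injective {A : Set ℕ} {G H : Type*} [Group G] [Group H] (h : InS A H) (f : G →* H)
    (hf : Function.Injective f) : InS A G := fun g => by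
  rw [← orderOf_injective f hf]
  exact h _

theorem bigP_prime {p : ℕ} (hp : p ∈ bigP) : p.Prime := prime_piJ p (bigP_sub p hp)

theorem arith : ∀ x ∈ bigP, ∀ y ∈ bigP, x ≠ y → ¬ x ∣ y ^ 2 - 1 := by decide

section

variable {A : Set ℕ} (J : JSpec A) {G : Type*} [Group G] [Finite G] (hI : InS A G)

include J hI

theorem smooth_card : Smooth (Nat.card G) := by
  intro r hr hd
  have : Fact r.Prime := ⟨hr⟩
  obtain ⟨g, hg⟩ := exists_prime_orderOf_dvd_card' r hd
  exact J.smooth r hr (hg ▸ hI g)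

/-- a `p`-element has order dividing `p` -/
theorem pow_eq_one {p : ℕ} (hp : p ∈ bigP) {g : G} {k : ℕ} (hg : g ^ p ^ k = 1) : g ^ p = 1 := by
  obtain ⟨j, hj, hjo⟩ := (Nat.dvd_prime_pow (bigP_prime hp)).1 (orderOf_dvd_of_pow_eq_one hg)
  have h1 : j < 2 := by
    by_contra h2
    exact J.sq p hp (J.dvd (pow_dvd_pow p (by omega : 2 ≤ j)) (hjo ▸ hI g))
  rw [← orderOf_dvd_iff_pow_eq_one, hjo]
  exact (pow_dvd_pow p (by omega : j ≤ 1)).trans (by rw [pow_one])

theorem exp_of_pGroup {p : ℕ} (hp : p ∈ bigP) {Y : Subgroup G} (hY : IsPGroup p Y) : ∀ g ∈ Y, g ^ p = 1 := by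
  intro g hg
  obtain ⟨k, hk⟩ := hY ⟨g, hg⟩
  exact pow_eq_one J hI hp (k := k) (congrArg Subtype.val hk)

theorem orderOf_of_pGroup {p : ℕ} (hp : p ∈ bigP) {Y : Subgroup G} (hY : IsPGroup p Y) {g : G} (hg : g ∈ Y)
    (h1 : g ≠ 1) : orderOf g = p := by
  have : Fact p.Prime := ⟨bigP_prime hp⟩
  exact orderOf_eq_prime (exp_of_pGroup J hI hp hY g hg) h1

/-- three commuting elements of different prime orders, two of them big -/
theorem no3 {p q r : ℕ} (hp : p ∈ bigP) (hq : q ∈ bigP) (hr : r.Prime) (hpq : p ≠ q) (hrp : r ≠ p) (hrq : r ≠ q)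
    {x y z : G} (hx : orderOf x = p) (hy : orderOf y = q) (hz : orderOf z = r) (hxy : x * y = y * x)
    (hxz : x * z = z * x) (hyz : y * z = z * y) : False := by
  have hcpq : Nat.Coprime p q := (Nat.coprime_primes (bigP_prime hp) (bigP_prime hq)).2 hpq
  have h1 : orderOf (x * y) = p * q := by
    rw [Commute.orderOf_mul_eq_mul_orderOf_of_coprime hxy (by rw [hx, hy]; exact hcpq), hx, hy]
  have hc : Commute (x * y) z := Commute.mul_left hxz hyz
  have h2 : orderOf (x * y * z) = p * q * r := by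
    rw [hc.orderOf_mul_eq_mul_orderOf_of_coprime, h1, hz]
    rw [h1, hz]
    exact Nat.Coprime.mul_left ((Nat.coprime_primes (bigP_prime hp) hr).2 hrp.symm)
      ((Nat.coprime_primes (bigP_prime hq) hr).2 hrq.symm)
  exact J.three p hp q hq hpq r hr hrp hrq (h2 ▸ hI _)

end

/-! ### cores of subgroups -/

section cores

variable {G : Type*} [Group G] [Finite G] {q r : ℕ} {L : Subgroup G}

theorem pCoreOf_le : Cfsg.pCoreOf q L ≤ L := map_subtype_le _

theorem pCoreOf_isPGroup : IsPGroup q (Cfsg.pCoreOf q L) :=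
  (Lib.Cores.pCore_isPGroup q).map _

theorem le_normalizer_map {N : Subgroup L} [hN : N.Normal] : L ≤ normalizer (N.map L.subtype : Set G) := by
  intro x hx
  rw [mem_normalizer_iff]
  intro g
  constructor
  · rintro ⟨n, hn, rfl⟩
    exact ⟨(⟨x, hx⟩ * n * ⟨x, hx⟩⁻¹ :), hN.conj_mem n hn _, rfl⟩
  · rintro ⟨n, hn, h⟩
    refine ⟨(⟨x, hx⟩⁻¹ * n * (⟨x, hx⟩⁻¹)⁻¹ :), hN.conj_mem n hn _, ?_⟩
    have h1 : (n : G) = x * g * x⁻¹ := h
    simp only [map_mul, map_inv, subtype_apply, h1]
    group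

theorem le_normalizer_pCoreOf : L ≤ normalizer (Cfsg.pCoreOf q L : Set G) := le_normalizer_map

theorem pCoreOf_comm (hq : q.Prime) (hr : r.Prime) (h : q ≠ r) {a b : G} (ha : a ∈ Cfsg.pCoreOf q L)
    (hb : b ∈ Cfsg.pCoreOf r L) : a * b = b * a := by
  obtain ⟨a, ha, rfl⟩ := ha
  obtain ⟨b, hb, rfl⟩ := hb
  have : Fact q.Prime := ⟨hq⟩
  have : Fact r.Prime := ⟨hr⟩
  have hd : Disjoint (Cfsg.pCore q L) (Cfsg.pCore r L) := IsPGroup.disjoint_of_ne q r h _ _
    (Lib.Cores.pCore_isPGroup q) (Lib.Cores.pCore_isPGroup r)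
  have := commute_of_normal_of_disjoint _ _ (Lib.Cores.pCore_normal q) (Lib.Cores.pCore_normal r) hd a b ha hb
  exact congrArg L.subtype this.eq

/-- an element of prime order `r` centralising all `O_s(L)`, with `O_r(L) = 1`, is trivial -/
theorem fit_lemma {L : Type*} [Group L] [Finite L] [Group.IsSolvable L] {z : L} {r : ℕ} (hz : z ^ r = 1)
    (hcore : Cfsg.pCore r L = ⊥) (hc : ∀ s : ℕ, s.Prime → ∀ g ∈ Cfsg.pCore s L, z * g = g * z) : z = 1 := by
  have h1 : z ∈ centralizer (Cfsg.fittingSubgroup L : Set L) := by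
    have h2 : Cfsg.fittingSubgroup L ≤ centralizer ({z} : Set L) := by
      rw [Lib.Cores.fittingSubgroup_eq_iSup_pCore]
      refine iSup_le fun s g hg => ?_
      rw [mem_centralizer_singleton_iff]
      exact (hc s s.2 g hg).symm
    rw [mem_centralizer_iff]
    intro g hg
    exact mem_centralizer_singleton_iff.1 (h2 hg)
  have h2 : z ∈ Cfsg.fittingSubgroup L := S0044.result h1
  have hFn : (Cfsg.fittingSubgroup L).Normal := Lib.Cores.fittingSubgroup_normal
  let N : Subgroup L :=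
    { carrier := {g | g ∈ Cfsg.fittingSubgroup L ∧ g ∈ centralizer (Cfsg.fittingSubgroup L : Set L) ∧ g ^ r = 1}
      one_mem' := ⟨one_mem _, one_mem _, one_pow _⟩
      mul_mem' := by
        rintro a b ⟨ha, ha', ha''⟩ ⟨hb, hb', hb''⟩
        have hab : Commute a b := (mem_centralizer_iff.1 hb' a ha)
        exact ⟨mul_mem ha hb, mul_mem ha' hb', by rw [hab.mul_pow, ha'', hb'', one_mul]⟩
      inv_mem' := by
        rintro a ⟨ha, ha', ha''⟩
        exact ⟨inv_mem ha, inv_mem ha', by rw [inv_pow, ha'', inv_one]⟩ }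
  have hNn : N.Normal := ⟨by
    rintro a ⟨ha, ha', ha''⟩ g
    have hCn : (centralizer (Cfsg.fittingSubgroup L : Set L)).Normal := inferInstance
    exact ⟨hFn.conj_mem a ha g, hCn.conj_mem a ha' g, by rw [conj_pow, ha'', mul_one, mul_inv_cancel]⟩⟩
  have hNp : IsPGroup r N := by
    rintro ⟨a, ha, ha', ha''⟩
    exact ⟨1, Subtype.ext (by rw [pow_one]; exact ha'')⟩
  have h3 : N ≤ Cfsg.pCore r L := Lib.Cores.le_pCore hNn hNp
  rw [hcore] at h3
  exact mem_bot.1 (h3 (show z ∈ N from ⟨h2, h1, hz⟩))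

/-- version for subgroups -/
theorem fit_sub (hLs : Group.IsSolvable L) {z : G} (hzL : z ∈ L) (hz : z ^ r = 1)
    (hcore : Cfsg.pCoreOf r L = ⊥) (hc : ∀ s : ℕ, s.Prime → ∀ g ∈ Cfsg.pCoreOf s L, z * g = g * z) : z = 1 := by
  have h1 : Cfsg.pCore r L = ⊥ := by
    unfold Cfsg.pCoreOf at hcore
    rwa [map_eq_bot_iff_of_injective _ L.subtype_injective] at hcore
  have h2 := fit_lemma (L := L) (z := ⟨z, hzL⟩) (r := r) (Subtype.ext hz) h1 (fun s hs g hg => Subtype.ext
    (hc s hs g ⟨g, hg, rfl⟩))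
  exact congrArg Subtype.val h2

/-- a nontrivial solvable subgroup has a nontrivial core -/
theorem exists_core (hLs : Group.IsSolvable L) (hL : L ≠ ⊥) : ∃ s : ℕ, s.Prime ∧ Cfsg.pCoreOf s L ≠ ⊥ := by
  by_contra hno
  push Not at hno
  obtain ⟨z, hz, hz1⟩ := Act.exists_ne_one hL
  obtain ⟨p, hp, hpz⟩ := Nat.exists_prime_and_dvd (n := orderOf z) (by rwa [Ne, orderOf_eq_one_iff])
  have h1 : orderOf (z ^ (orderOf z / p)) = p := by
    rw [orderOf_pow_of_dvd (Nat.div_pos (Nat.le_of_dvd (orderOf_pos z) hpz) hp.pos).ne' (Nat.div_dvd_of_dvd hpz)]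
    exact Nat.div_div_self hpz (orderOf_pos z).ne'
  have h2 := fit_sub (r := p) hLs (pow_mem hz (orderOf z / p)) (by
    have := pow_orderOf_eq_one (z ^ (orderOf z / p))
    rwa [h1] at this) (hno p hp)
    (fun s hs g hg => by
      rw [hno s hs, mem_bot] at hg
      rw [hg, mul_one, one_mul])
  rw [h2, orderOf_one] at h1
  exact hp.one_lt.ne h1

theorem prime_dvd_of_core (h : Cfsg.pCoreOf q L ≠ ⊥) (hq : q.Prime) : q ∣ Nat.card L := by
  have : Fact q.Prime := ⟨hq⟩
  obtain ⟨n, hn⟩ := (pCoreOf_isPGroup (q := q) (L := L)).exists_card_eq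
  have hn0 : n ≠ 0 := by
    rintro rfl
    rw [pow_zero, card_eq_one] at hn
    exact h hn
  exact ((dvd_pow_self q hn0).trans (by rw [← hn])).trans (card_dvd_of_le pCoreOf_le)

end cores

end Cfsg.Agent.H370
end

private theorem dce_ac6af72c5e2e : _root_.True := by
  try have : _root_.True := by simp only [_root_.Cfsg.Agent.H370.piJ.eq_1]
  exact _root_.True.intro
end

-- part: H370/LemFMin
section
prune_inst 0x30040000000000000000400000000000000000208000000002000000050000000800040000000020000000000000004400000000000000000000000000000000000000000100000000000004000000000000000000000000000000000000000000000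
set_option linter.all false
open scoped Cfsg.Agent.FastGrp

-- part: H370/LemF
section
/-!
# An element of order 31 acting on a 2-group: an elementary abelian subgroup of order at least 32 (helper370)
-/

set_option autoImplicit false
set_option linter.unusedSectionVars false

namespace Cfsg.Agent.H370.LemF

open Finset

/-- quadratic residues modulo 31 -/
def QR : Finset ℕ := {1, 2, 4, 5, 7, 8, 9, 10, 14, 16, 18, 19, 20, 25, 28}

def NR : Finset ℕ := {3, 6, 11, 12, 13, 15, 17, 21, 22, 23, 24, 26, 27, 29, 30}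

section ring

variable {R : Type*} [Ring R] (h2 : (2 : R) = 0) (x : R)

include h2 in
theorem sum_sq (S : Finset ℕ) : (∑ k ∈ S, x ^ k) ^ 2 = ∑ k ∈ S, x ^ (2 * k) := by
  induction S using Finset.induction_on with
  | empty => simp
  | insert a S ha ih =>
    rw [Finset.sum_insert ha, Finset.sum_insert ha, ← ih]
    have hc : Commute (x ^ a) (∑ k ∈ S, x ^ k) := Commute.sum_right _ _ _ fun k _ => Commute.pow_pow_self x a k
    have h3 : (x ^ a + ∑ k ∈ S, x ^ k) ^ 2 = (x ^ a) ^ 2 + 2 * (x ^ a * ∑ k ∈ S, x ^ k) + (∑ k ∈ S, x ^ k) ^ 2 := by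
      rw [pow_two, pow_two, pow_two, mul_add, add_mul, add_mul, hc.eq]
      noncomm_ring
    rw [h3, h2, zero_mul, add_zero, ← pow_mul, mul_comm a 2]

theorem pow_mod (hx : x ^ 31 = 1) (n : ℕ) : x ^ (n % 31) = x ^ n := by
  conv_rhs => rw [← Nat.div_add_mod n 31, pow_add, pow_mul, hx, one_pow, one_mul]

include h2 in
theorem theta_sq (hx : x ^ 31 = 1) : (∑ k ∈ QR, x ^ k) ^ 2 = ∑ k ∈ QR, x ^ k := by
  rw [sum_sq h2]
  refine Finset.sum_bij (fun k _ => 2 * k % 31) ?_ ?_ ?_ ?_
  · decide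
  · decide +kernel
  · decide +kernel
  · intro k _
    rw [pow_mod x hx]

theorem sum_neg : ∑ k ∈ QR, x ^ (31 - k) = ∑ k ∈ NR, x ^ k := by
  refine Finset.sum_bij (fun k _ => 31 - k) ?_ ?_ ?_ ?_
  · decide +kernel
  · decide +kernel
  · decide +kernel
  · intro k _
    rfl

theorem sum_neg' : ∑ k ∈ NR, x ^ (31 - k) = ∑ k ∈ QR, x ^ k := by
  refine Finset.sum_bij (fun k _ => 31 - k) ?_ ?_ ?_ ?_
  · decide +kernel
  · decide +kernel
  · decide +kernel
  · intro k _
    rfl

theorem sum_range : ∑ k ∈ range 31, x ^ k = 1 + ∑ k ∈ QR, x ^ k + ∑ k ∈ NR, x ^ k := by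
  have h : range 31 = insert 0 (QR ∪ NR) := by decide +kernel
  rw [h, Finset.sum_insert (by decide +kernel), Finset.sum_union (by decide +kernel), pow_zero, add_assoc]

end ring

theorem endo_key {V : Type*} [AddCommGroup V] (hV : ∀ v : V, v + v = 0) (x : AddMonoid.End V) (hx : x ^ 31 = 1)
    (hfix : ∀ v, x v = v → v = 0) (hirr : ∀ W : AddSubgroup V, (∀ w ∈ W, x w ∈ W) → W = ⊥ ∨ W = ⊤) :
    ∃ S : Finset ℕ, (∀ k ∈ S, k ≤ 31) ∧ (∑ k ∈ S, x ^ k = 0) ∧ (∑ k ∈ S, x ^ (31 - k) = 1) := by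
  have h2 : (2 : AddMonoid.End V) = 0 := by
    ext v
    rw [← one_add_one_eq_two]
    exact hV v
  have hN : ∑ k ∈ range 31, x ^ k = 0 := by
    ext v
    apply hfix
    have h3 := mul_geom_sum x 31
    rw [hx, sub_self, sub_mul, one_mul, sub_eq_zero] at h3
    exact congrArg (fun f : AddMonoid.End V => f v) h3
  rw [sum_range] at hN
  have hsq := theta_sq h2 x hx
  set θ := ∑ k ∈ QR, x ^ k with hθ
  set θ' := ∑ k ∈ NR, x ^ k with hθ'
  have hneg : ∀ a : AddMonoid.End V, a + a = 0 := fun a => by rw [← two_mul, h2, zero_mul]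
  have hθ'eq : θ' = 1 + θ := by
    have h4 : θ' = -(1 + θ) := by rw [eq_neg_iff_add_eq_zero, add_comm]; exact hN
    rw [h4, neg_eq_iff_add_eq_zero, hneg]
  have hcomm : x * θ = θ * x := by
    rw [hθ]
    exact Commute.sum_right _ _ _ fun k _ => (Commute.refl x).pow_right k
  let W : AddSubgroup V :=
    { carrier := {v | θ v = 0}
      zero_mem' := map_zero θ
      add_mem' := by
        intro a b ha hb
        change θ (a + b) = 0
        rw [map_add, ha, hb, add_zero]
      neg_mem' := by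
        intro a ha
        change θ (-a) = 0
        rw [map_neg, ha, neg_zero] }
  have hker := hirr W (by
    intro w hw
    have hw' : θ w = 0 := hw
    have h3 : θ (x w) = x (θ w) := congrArg (fun f : AddMonoid.End V => f w) hcomm.symm
    change θ (x w) = 0
    rw [h3, hw', map_zero])
  rcases hker with h3 | h3
  · -- `θ` injective, so `θ = 1`
    have h4 : θ = 1 := by
      ext v
      have h5 : θ (θ v - v) = 0 := by
        rw [map_sub, sub_eq_zero]
        exact congrArg (fun f : AddMonoid.End V => f v) ((pow_two θ).symm.trans hsq)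
      have h6 : θ v - v ∈ W := h5
      rw [h3, AddSubgroup.mem_bot, sub_eq_zero] at h6
      exact h6
    refine ⟨NR, by decide, ?_, ?_⟩
    · rw [← hθ', hθ'eq, h4, hneg]
    · rw [sum_neg' x, ← hθ, h4]
  · have h4 : θ = 0 := by
      ext v
      have : v ∈ W := by rw [h3]; exact AddSubgroup.mem_top v
      exact this
    refine ⟨QR, by decide, ?_, ?_⟩
    · rw [← hθ, h4]
    · rw [sum_neg x, ← hθ', hθ'eq, h4, add_zero]

end Cfsg.Agent.H370.LemF
end

-- part: H370/Cov
section
/-!
# Solvable Hall supplements along a chief series (helper370)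
-/

set_option autoImplicit false
set_option linter.unusedSectionVars false

namespace Cfsg.Agent.H370

open Subgroup

variable {G : Type*} [Group G] [Finite G]

/-- `N / K` is a chief factor of `G` -/
structure IsChief (K N : Subgroup G) : Prop where
  nK : K.Normal
  nN : N.Normal
  lt : K < N
  min : ∀ M : Subgroup G, M.Normal → K ≤ M → M ≤ N → M = K ∨ M = N

/-- at most one element of `T` divides `n` -/
def AM1 (T : List ℕ) (n : ℕ) : Prop := ∀ p ∈ T, ∀ q ∈ T, p ∣ n → q ∣ n → p = q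

theorem exists_chief_below {C : Subgroup G} (hC : C.Normal) (h1 : C ≠ ⊥) : ∃ K : Subgroup G, IsChief K C := by
  classical
  let S : Set (Subgroup G) := {K | K.Normal ∧ K < C}
  have hS : S.Nonempty := ⟨⊥, inferInstance, bot_lt_iff_ne_bot.2 h1⟩
  obtain ⟨K, hK⟩ := Set.Finite.exists_maximal (Set.toFinite S) hS
  refine ⟨K, hK.1.1, hC, hK.1.2, fun M hM hKM hMC => ?_⟩
  by_cases h : M = C
  · exact Or.inr h
  · exact Or.inl (le_antisymm (hK.2 ⟨hM, lt_of_le_of_ne hMC h⟩ hKM) hKM)

/-- the Frattini argument -/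
theorem frattini_in (p : ℕ) [Fact p.Prime] {L X : Subgroup G} (hLX : L ≤ X) (hX : X ≤ normalizer (L : Set G)) :
    ∃ Q : Subgroup G, Q ≤ L ∧ IsPGroup p Q ∧ ¬ p ∣ Q.relIndex L ∧ X ≤ L ⊔ (X ⊓ normalizer (Q : Set G)) := by
  have hn : (L.subgroupOf X).Normal := normal_subgroupOf_of_le_normalizer hX
  obtain ⟨P⟩ : Nonempty (Sylow p (L.subgroupOf X)) := inferInstance
  have hF := Sylow.normalizer_sup_eq_top P
  set Q0 : Subgroup X := (P : Subgroup (L.subgroupOf X)).map (L.subgroupOf X).subtype with hQ0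
  refine ⟨Q0.map X.subtype, ?_, (P.isPGroup'.map _).map _, ?_, ?_⟩
  · rintro _ ⟨x, hx, rfl⟩
    obtain ⟨y, -, rfl⟩ := hx
    exact y.2
  · have h1 : (Q0.map X.subtype).relIndex L = (P : Subgroup (L.subgroupOf X)).index := by
      have h2 : L = (L.subgroupOf X).map X.subtype := by
        rw [subgroupOf_map_subtype, inf_eq_left.2 hLX]
      conv_lhs => rw [h2]
      rw [relIndex_map_map_of_injective _ _ X.subtype_injective]
      have h3 : L.subgroupOf X = (⊤ : Subgroup (L.subgroupOf X)).map (L.subgroupOf X).subtype := by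
        rw [← MonoidHom.range_eq_map, range_subtype]
      conv_lhs => rw [h3]
      rw [hQ0, relIndex_map_map_of_injective _ _ (L.subgroupOf X).subtype_injective, relIndex_top_right]
    rw [h1]
    exact P.not_dvd_index
  · intro x hx
    have h3 : (⟨x, hx⟩ : X) ∈ normalizer (Q0 : Set X) ⊔ L.subgroupOf X := by
      rw [hF]
      exact mem_top _
    rw [mem_sup_of_normal_right] at h3
    obtain ⟨a, ha, b, hb, hab⟩ := h3
    have hx2 : x = (a : G) * (b : G) := (congrArg Subtype.val hab).symm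
    rw [hx2]
    have hkey : ∀ c : X, c ∈ normalizer (Q0 : Set X) → ∀ y ∈ Q0.map X.subtype,
        (c : G) * y * (c : G)⁻¹ ∈ Q0.map X.subtype := by
      rintro c hc _ ⟨y, hy, rfl⟩
      exact ⟨c * y * c⁻¹, (mem_normalizer_iff.mp hc y).mp hy, rfl⟩
    have ha2 : (a : G) ∈ X ⊓ normalizer ((Q0.map X.subtype : Subgroup G) : Set G) := by
      refine ⟨a.2, mem_normalizer_iff.mpr fun y => ⟨hkey a ha y, fun hy => ?_⟩⟩
      have h4 := hkey a⁻¹ (inv_mem ha) _ hy
      have e : ((a⁻¹ : X) : G) * ((a : G) * y * (a : G)⁻¹) * ((a⁻¹ : X) : G)⁻¹ = y := by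
        rw [coe_inv]; group
      rwa [e] at h4
    exact mul_mem (mem_sup_right ha2) (mem_sup_left hb)

theorem card_relIndex {A B : Subgroup G} (h : A ≤ B) : Nat.card A * A.relIndex B = Nat.card B :=
  Lib.SylowNormalInf.card_mul_relIndex A B h

theorem map_conj_of_mem_normalizer {A : Subgroup G} {x : G} (h : x ∈ normalizer (A : Set G)) :
    A.map (MulAut.conj x).toMonoidHom = A := by
  ext y
  constructor
  · rintro ⟨a, ha, rfl⟩
    exact (mem_normalizer_iff.1 h a).1 ha
  · intro hy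
    refine ⟨x⁻¹ * y * x, ?_, by simp only [mul_assoc, _root_.MulEquiv.toMonoidHom_eq_coe, _root_.mul_assoc, _root_.MonoidHom.coe_coe, _root_.MulAut.conj_apply, _root_.mul_inv_cancel_left, _root_.mul_inv_cancel, _root_.mul_one]⟩
    exact (mem_normalizer_iff.1 h _).2 (by simpa [mul_assoc] using hy)

theorem mem_normalizer_of_map_conj {A : Subgroup G} {x : G} (h : A.map (MulAut.conj x).toMonoidHom = A) :
    x ∈ normalizer (A : Set G) := by
  rw [mem_normalizer_iff]
  intro y
  constructor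
  · intro hy
    rw [← SetLike.mem_coe, ← h]
    exact ⟨y, hy, rfl⟩
  · intro hy
    rw [← SetLike.mem_coe, ← h] at hy
    obtain ⟨a, ha, hay⟩ := hy
    have h1 : x * a * x⁻¹ = x * y * x⁻¹ := hay
    have h2 : a = y := mul_left_cancel (mul_right_cancel h1)
    exact h2 ▸ ha

theorem mem_normalizer_sup {A B : Subgroup G} {x : G} (hA : x ∈ normalizer (A : Set G))
    (hB : x ∈ normalizer (B : Set G)) : x ∈ normalizer ((A ⊔ B : Subgroup G) : Set G) := by
  apply mem_normalizer_of_map_conj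
  rw [Subgroup.map_sup, map_conj_of_mem_normalizer hA, map_conj_of_mem_normalizer hB]

/-- a group with a solvable normalised subgroup `H` and a `p`-group `Q` generating it -/
theorem solvable_sup {p : ℕ} [Fact p.Prime] {H Q : Subgroup G} (hs : Group.IsSolvable H) (hQ : IsPGroup p Q)
    (hQH : Q ≤ normalizer (H : Set G)) : Group.IsSolvable ↥(H ⊔ Q) := by
  have hn : (H.subgroupOf (H ⊔ Q)).Normal := normal_subgroupOf_of_le_normalizer (sup_le le_normalizer hQH)
  rw [Group.isSolvable_iff_subgroup_quotient (H.subgroupOf (H ⊔ Q))]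
  refine ⟨?_, ?_⟩
  · exact Group.isSolvable_of_isSolvable_injective (f := (subgroupOfEquivOfLe (le_sup_left : H ≤ H ⊔ Q)).toMonoidHom)
      (subgroupOfEquivOfLe (le_sup_left : H ≤ H ⊔ Q)).injective
  · have hQs : Group.IsSolvable Q := by
      have := hQ.isNilpotent
      infer_instance
    refine Group.isSolvable_of_surjective (f := (QuotientGroup.mk' (H.subgroupOf (H ⊔ Q))).comp
      (inclusion (le_sup_right : Q ≤ H ⊔ Q))) ?_
    intro y
    obtain ⟨⟨g, hg⟩, rfl⟩ := QuotientGroup.mk_surjective y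
    have hg' : g ∈ ((H ⊔ Q : Subgroup G) : Set G) := hg
    rw [coe_mul_of_right_le_normalizer_left _ _ hQH] at hg'
    obtain ⟨a, ha, b, hb, hab⟩ := hg'
    refine ⟨⟨b, hb⟩, ?_⟩
    have hab' : a * b = g := hab
    have hnn : b⁻¹ ∈ normalizer (H : Set G) := inv_mem (hQH hb)
    apply QuotientGroup.eq.2
    rw [mem_subgroupOf]
    have h1 : b⁻¹ * a * b⁻¹⁻¹ ∈ H := (mem_normalizer_iff.1 hnn a).1 ha
    have h2 : b⁻¹ * g = b⁻¹ * a * b⁻¹⁻¹ := by rw [← hab']; group
    change b⁻¹ * g ∈ H
    rw [h2]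
    exact h1

theorem cov (T : List ℕ) (hT : ∀ p ∈ T, p.Prime) (n : ℕ) (C : Subgroup G) (hC : C.Normal) (hn : Nat.card C ≤ n)
    (h : ∀ K N : Subgroup G, IsChief K N → N ≤ C → AM1 T (K.relIndex N)) :
    ∃ X H : Subgroup G, X ⊔ C = ⊤ ∧ H ≤ C ∧ H ≤ X ∧ X ≤ normalizer (H : Set G) ∧ Group.IsSolvable H ∧
      (∀ r : ℕ, r.Prime → r ∣ Nat.card H → r ∈ T) ∧ ∀ p ∈ T, ¬ p ∣ H.relIndex C := by
  induction n using Nat.strong_induction_on generalizing C with
  | _ n ih =>
    by_cases h1 : C = ⊥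
    · subst h1
      refine ⟨⊤, ⊥, by simp, le_rfl, bot_le, ?_, ?_, ?_, ?_⟩
      · intro x _
        rw [mem_normalizer_iff]
        intro y
        simp only [mem_bot]
        constructor
        · rintro rfl
          group
        · intro h
          rwa [mul_inv_eq_one, mul_eq_left] at h
      · infer_instance
      · intro r hr hd
        rw [card_bot] at hd
        exact absurd hd (by have := hr.one_lt; intro h; have := Nat.le_of_dvd one_pos h; omega)
      · intro p hp hd
        rw [relIndex_self] at hd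
        have := (hT p hp).one_lt
        have := Nat.le_of_dvd one_pos hd
        omega
    · obtain ⟨K, hK⟩ := exists_chief_below hC h1
      have hcard : Nat.card K < Nat.card C := by
        refine lt_of_le_of_ne (card_le_of_le hK.lt.le) fun he => hK.lt.ne (eq_of_le_of_card_ge hK.lt.le he.ge)
      obtain ⟨X, H, hX1, hX2, hX3, hX4, hX5, hX6, hX7⟩ := ih (Nat.card K) (lt_of_lt_of_le hcard hn) K hK.nK le_rfl
        (fun K' N' hc hN' => h K' N' hc (hN'.trans hK.lt.le))
      have hXC : X ⊔ C = ⊤ := eq_top_iff.2 (hX1 ▸ sup_le_sup_left hK.lt.le X)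
      have hmul : ∀ A : Subgroup G, A ≤ C → H ≤ A → H.relIndex A * A.relIndex C = H.relIndex K * K.relIndex C := by
        intro A hA hHA
        rw [relIndex_mul_relIndex _ _ _ hHA hA, relIndex_mul_relIndex _ _ _ hX2 hK.lt.le]
      by_cases hp : ∃ p ∈ T, p ∣ K.relIndex C
      · obtain ⟨p, hpT, hpd⟩ := hp
        have : Fact p.Prime := ⟨hT p hpT⟩
        have huniq : ∀ q ∈ T, q ∣ K.relIndex C → q = p := fun q hq hqd => h K C hK le_rfl q hq p hpT hqd hpd
        have hLn : X ≤ normalizer ((C ⊓ X : Subgroup G) : Set G) := by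
          intro x hx
          rw [mem_normalizer_iff]
          intro y
          simp only [mem_inf]
          constructor
          · rintro ⟨h1, h2⟩
            exact ⟨hC.conj_mem y h1 x, mul_mem (mul_mem hx h2) (inv_mem hx)⟩
          · rintro ⟨h1, h2⟩
            refine ⟨by simpa [mul_assoc] using hC.conj_mem _ h1 x⁻¹, ?_⟩
            have := mul_mem (mul_mem (inv_mem hx) h2) hx
            simpa [mul_assoc] using this
        obtain ⟨Q, hQL, hQp, hQi, hQX⟩ := frattini_in p (L := C ⊓ X) (X := X) inf_le_right hLn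
        have hQX' : Q ≤ X := hQL.trans inf_le_right
        have hQC : Q ≤ C := hQL.trans inf_le_left
        have hQN : Q ≤ normalizer (H : Set G) := hQX'.trans hX4
        have hHC : H ⊔ Q ≤ C := sup_le (hX2.trans hK.lt.le) hQC
        have hHX : H ⊔ Q ≤ X := sup_le hX3 hQX'
        refine ⟨X ⊓ normalizer ((H ⊔ Q : Subgroup G) : Set G), H ⊔ Q, ?_, hHC, le_inf hHX le_normalizer, inf_le_right,
          solvable_sup hX5 hQp hQN, ?_, ?_⟩
        · rw [eq_top_iff, ← hXC]
          refine sup_le ?_ le_sup_right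
          refine hQX.trans (sup_le (inf_le_left.trans le_sup_right) (le_trans ?_ le_sup_left))
          refine le_inf inf_le_left ?_
          intro x hx
          obtain ⟨hx1, hx2⟩ := mem_inf.1 hx
          exact mem_normalizer_sup (hX4 hx1) hx2
        · intro r hr hd
          have h2 := OddOrderLocal.DecompBasic.card_sup_dvd hQN
          have h3 : r ∣ Nat.card H * Nat.card Q := hd.trans (by rw [sup_comm] at h2; rwa [mul_comm])
          rcases (hr.dvd_mul).1 h3 with h4 | h4
          · exact hX6 r hr h4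
          · obtain ⟨k, hk⟩ := IsPGroup.iff_card.1 hQp
            rw [hk] at h4
            rw [(Nat.prime_dvd_prime_iff_eq hr (hT p hpT)).1 (hr.dvd_of_dvd_pow h4)]
            exact hpT
        · intro q hq hqd
          by_cases hqp : q = p
          · subst hqp
            have h2 : (H ⊔ Q).relIndex C = (H ⊔ Q).relIndex (C ⊓ X) * (C ⊓ X).relIndex C := by
              rw [relIndex_mul_relIndex _ _ _ (le_inf hHC hHX) inf_le_left]
            rw [h2] at hqd
            rcases ((hT q hq).dvd_mul).1 hqd with h3 | h3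
            · exact hQi (h3.trans (by
                rw [← relIndex_mul_relIndex Q (H ⊔ Q) (C ⊓ X) le_sup_right (le_inf hHC hHX)]
                exact dvd_mul_left _ _))
            · rw [inf_comm, inf_relIndex_right] at h3
              have hKn := hK.nK
              have h4 : X.relIndex C = X.index := by
                have := Lib.SylowNormalInf.relIndex_sup_of_normal X C
                rw [hXC, relIndex_top_right] at this
                exact this.symm
              have h5 : X.relIndex K = X.index := by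
                have := Lib.SylowNormalInf.relIndex_sup_of_normal X K
                rw [hX1, relIndex_top_right] at this
                exact this.symm
              rw [h4, ← h5] at h3
              exact hX7 q hq (h3.trans (relIndex_dvd_of_le_left K hX3))
          · have h2 : q ∣ H.relIndex K * K.relIndex C := by
              rw [← hmul (H ⊔ Q) hHC le_sup_left]
              exact hqd.trans (dvd_mul_left _ _)
            rcases ((hT q hq).dvd_mul).1 h2 with h3 | h3
            · exact hX7 q hq h3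
            · exact hqp (huniq q hq h3)
      · push Not at hp
        refine ⟨X, H, hXC, hX2.trans hK.lt.le, hX3, hX4, hX5, hX6, fun p hpT hd => ?_⟩
        rw [← relIndex_mul_relIndex H K C hX2 hK.lt.le] at hd
        rcases ((hT p hpT).dvd_mul).1 hd with h2 | h2
        · exact hX7 p hpT h2
        · exact hp p hpT h2

end Cfsg.Agent.H370
end

-- part: H370/Chief
section
/-!
# Chief factors divisible by two of 23, 29, 31, 37, 43 (helper370)
-/

set_option autoImplicit false
set_option linter.unusedSectionVars false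

namespace Cfsg.Agent.H370

open Subgroup

/-- the facts on `J₄` used in the recognition of `J₄ × J₄` by its element orders -/
structure JFacts (J : Type*) [Group J] : Prop where
  simple : IsSimpleGroup J
  nc : ∃ a b : J, a * b ≠ b * a
  inner : ∀ f : MulAut J, ∃ a : J, ∀ x, f x = a * x * a⁻¹
  el16 : ∃ g : J, orderOf g = 16
  dvd : ∀ p ∈ bigP, p ∣ Nat.card J
  cc : ∀ p ∈ bigP, ∀ g : J, orderOf g = p → ∀ x : J, x * g = g * x → x ∈ zpowers g
  two31 : ∃ (D : Subgroup J) (y : J), (∀ d ∈ D, d ^ 2 = 1) ∧ D ≠ ⊥ ∧ orderOf y = 31 ∧ y ∈ normalizer (D : Set J)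
  two23 : ∃ (D : Subgroup J) (y : J), (∀ d ∈ D, d ^ 2 = 1) ∧ D ≠ ⊥ ∧ orderOf y = 23 ∧ y ∈ normalizer (D : Set J)
  f29 : ∃ a c : J, orderOf a = 29 ∧ orderOf c = 28 ∧ c ∈ normalizer (zpowers a : Set J)
  f23 : ∃ a c : J, orderOf a = 23 ∧ orderOf c = 11 ∧ c ∈ normalizer (zpowers a : Set J)

variable {J : Type*} [Group J] [Finite J]

theorem JFacts.center_trivial (F : JFacts J) (z : J) (h : ∀ t : J, z * t = t * z) : z = 1 := by
  have := F.simple
  rcases Lib.MinNormalNonabelian.commute_or_center_trivial (T := J) with h1 | h1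
  · obtain ⟨a, b, hab⟩ := F.nc
    exact absurd (h1 a b).eq hab
  · exact h1 z h

variable {A : Set ℕ} {G : Type*} [Group G] [Finite G]

/-- an automorphism of a subgroup isomorphic to `J` is inner -/
theorem JFacts.inner_sub (F : JFacts J) {T : Subgroup G} (e : T ≃* J) {g : G} (hg : g ∈ normalizer (T : Set G)) :
    ∃ c ∈ T, ∀ t ∈ T, g * t * g⁻¹ = c * t * c⁻¹ := by
  have hgi : g⁻¹ ∈ normalizer (T : Set G) := inv_mem hg
  let φ : T ≃* T :=
    { toFun := fun l => ⟨g * l * g⁻¹, (mem_normalizer_iff.1 hg _).1 l.2⟩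
      invFun := fun l => ⟨g⁻¹ * l * g⁻¹⁻¹, (mem_normalizer_iff.1 hgi _).1 l.2⟩
      left_inv := fun l => by ext; simp [mul_assoc]
      right_inv := fun l => by ext; simp only [mul_assoc, _root_.inv_inv, _root_.mul_assoc, _root_.mul_inv_cancel_left, _root_.mul_inv_cancel, _root_.mul_one]
      map_mul' := fun a b => by ext; simp only [mul_assoc, _root_.Subgroup.coe_mul, _root_.mul_assoc, _root_.MulMemClass.mk_mul_mk, _root_.inv_mul_cancel_left] }
  obtain ⟨a, ha⟩ := F.inner ((e.symm.trans φ).trans e)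
  refine ⟨(e.symm a : T), (e.symm a).2, fun t ht => ?_⟩
  have h1 := ha (e ⟨t, ht⟩)
  have h2 : e (φ ⟨t, ht⟩) = a * e ⟨t, ht⟩ * a⁻¹ := by
    simpa only [_root_.MulEquiv.trans_apply, _root_.MulEquiv.symm_apply_apply] using h1
  have h3 : φ ⟨t, ht⟩ = e.symm a * ⟨t, ht⟩ * (e.symm a)⁻¹ := by
    apply e.injective
    rw [h2, map_mul, map_mul, map_inv, MulEquiv.apply_symm_apply]
  exact congrArg Subtype.val h3

theorem JFacts.center_sub (F : JFacts J) {T : Subgroup G} (e : T ≃* J) {z : G} (hz : z ∈ T)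
    (h : ∀ t ∈ T, z * t = t * z) : z = 1 := by
  have h1 : e ⟨z, hz⟩ = 1 := by
    apply F.center_trivial
    intro t
    have := congrArg e (Subtype.ext (h (e.symm t) (e.symm t).2) : (⟨z, hz⟩ : T) * e.symm t = e.symm t * ⟨z, hz⟩)
    rwa [map_mul, map_mul, MulEquiv.apply_symm_apply] at this
  have h2 : (⟨z, hz⟩ : T) = 1 := e.injective (by rw [h1, map_one])
  exact congrArg Subtype.val h2

theorem JFacts.exists_order {T : Subgroup G} (e : T ≃* J) {x : J} : ∃ t ∈ T, orderOf t = orderOf x :=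
  ⟨(e.symm x : T), (e.symm x).2, by rw [Subgroup.orderOf_coe, MulEquiv.orderOf_eq]⟩

theorem JFacts.exists_prime (F : JFacts J) {T : Subgroup G} (e : T ≃* J) {p : ℕ} (hp : p ∈ bigP) :
    ∃ t ∈ T, orderOf t = p := by
  have : Fact p.Prime := ⟨bigP_prime hp⟩
  obtain ⟨x, hx⟩ := exists_prime_orderOf_dvd_card' p (F.dvd p hp)
  obtain ⟨t, ht, h⟩ := JFacts.exists_order e (x := x)
  exact ⟨t, ht, h.trans hx⟩

/-- swapping two commuting copies of `J` gives an element of order divisible by 32 -/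
theorem swap_false (S : JSpec A) (hI : InS A G) (F : JFacts J) {T U : Subgroup G} (e : T ≃* J)
    (hTU : ∀ t ∈ T, ∀ u ∈ U, t * u = u * t) {g : G} (h1 : ∀ t ∈ T, g * t * g⁻¹ ∈ U) (h2 : g ^ 2 ∈ normalizer (T : Set G)) :
    False := by
  obtain ⟨c, hc, hgc⟩ := F.inner_sub e h2
  obtain ⟨x, hx⟩ := F.el16
  obtain ⟨b, hb, hbo⟩ := JFacts.exists_order e (x := x)
  rw [hx] at hbo
  have ha : b * c⁻¹ ∈ T := mul_mem hb (inv_mem hc)
  set a := b * c⁻¹ with hadef
  have key : ∀ t ∈ T, (a * g) ^ 2 * t * ((a * g) ^ 2)⁻¹ = b * t * b⁻¹ := by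
    intro t ht
    have h3 : (a * g) ^ 2 = a * (g * a * g⁻¹) * g ^ 2 := by
      rw [pow_two, pow_two]
      group
    have h4 : c * t * c⁻¹ ∈ T := mul_mem (mul_mem hc ht) (inv_mem hc)
    have h5 := hTU _ h4 _ (h1 a ha)
    have h6 : (g * a * g⁻¹) * (c * t * c⁻¹) * (g * a * g⁻¹)⁻¹ = c * t * c⁻¹ := by
      rw [← h5, mul_inv_cancel_right]
    calc (a * g) ^ 2 * t * ((a * g) ^ 2)⁻¹ = a * ((g * a * g⁻¹) * (g ^ 2 * t * (g ^ 2)⁻¹) * (g * a * g⁻¹)⁻¹) * a⁻¹ := by
          rw [h3]; group
      _ = a * (c * t * c⁻¹) * a⁻¹ := by rw [hgc t ht, h6]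
      _ = b * t * b⁻¹ := by rw [hadef]; group
  have key2 : ∀ k : ℕ, ∀ t ∈ T, ((a * g) ^ 2) ^ k * t * (((a * g) ^ 2) ^ k)⁻¹ = b ^ k * t * (b ^ k)⁻¹ := by
    intro k
    induction k with
    | zero => intro t _; simp
    | succ k ih =>
      intro t ht
      rw [pow_succ, pow_succ b]
      have h3 : b * t * b⁻¹ ∈ T := mul_mem (mul_mem hb ht) (inv_mem hb)
      calc ((a * g) ^ 2) ^ k * (a * g) ^ 2 * t * (((a * g) ^ 2) ^ k * (a * g) ^ 2)⁻¹ =
          ((a * g) ^ 2) ^ k * ((a * g) ^ 2 * t * ((a * g) ^ 2)⁻¹) * (((a * g) ^ 2) ^ k)⁻¹ := by group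
        _ = b ^ k * (b * t * b⁻¹) * (b ^ k)⁻¹ := by rw [key t ht, ih _ h3]
        _ = b ^ k * b * t * (b ^ k * b)⁻¹ := by group
  have key3 : ∀ k : ℕ, ((a * g) ^ 2) ^ k = 1 → 16 ∣ k := by
    intro k hk
    rw [← hbo]
    apply orderOf_dvd_of_pow_eq_one
    apply F.center_sub e (pow_mem hb k)
    intro t ht
    have h3 := key2 k t ht
    rw [hk] at h3
    simp only [one_mul, inv_one, mul_one] at h3
    conv_rhs => rw [h3]
    group
  have h32 : 32 ∣ orderOf (a * g) := by
    rcases Nat.even_or_odd' (orderOf (a * g)) with ⟨k, hk | hk⟩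
    · have h3 := key3 k (by rw [← pow_mul, ← hk, pow_orderOf_eq_one])
      rw [hk]
      exact mul_dvd_mul_left 2 h3
    · have h3 := key3 (orderOf (a * g)) (by rw [← pow_mul, mul_comm, pow_mul, pow_orderOf_eq_one, one_pow])
      omega
  exact S.n32 (S.dvd h32 (hI _))

/-- a normal subgroup isomorphic to `J` gives a homomorphism onto `J` -/
theorem exists_hom (F : JFacts J) {N : Subgroup G} [hN : N.Normal] (e : N ≃* J) :
    ∃ f : G →* J, N.map f = ⊤ := by
  have hex : ∀ g : G, ∃ c : N, ∀ t ∈ N, g * t * g⁻¹ = c * t * (c : G)⁻¹ := by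
    intro g
    obtain ⟨c, hc, h⟩ := F.inner_sub e (g := g) (by rw [normalizer_eq_top]; exact mem_top g)
    exact ⟨⟨c, hc⟩, h⟩
  choose c hc using hex
  have huniq : ∀ a b : N, (∀ t ∈ N, (a : G) * t * (a : G)⁻¹ = b * t * (b : G)⁻¹) → a = b := by
    intro a b hab
    have h1 : ((b⁻¹ * a : N) : G) = 1 := by
      apply F.center_sub e (b⁻¹ * a : N).2
      intro t ht
      have h2 := hab t ht
      push_cast
      have h3 : (a : G) * t = b * t * (b : G)⁻¹ * a := by
        rw [← h2]; group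
      rw [mul_assoc, h3]
      group
    have h2 : b⁻¹ * a = 1 := Subtype.ext h1
    rw [inv_mul_eq_one] at h2
    exact h2.symm
  let f : G →* N :=
    { toFun := c
      map_one' := by
        apply huniq
        intro t ht
        rw [← hc 1 t ht]
        simp
      map_mul' := by
        intro x y
        apply huniq
        intro t ht
        rw [← hc (x * y) t ht]
        have h1 : y * t * y⁻¹ ∈ N := hN.conj_mem t ht y
        calc x * y * t * (x * y)⁻¹ = x * (y * t * y⁻¹) * x⁻¹ := by group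
          _ = c x * (c y * t * (c y : G)⁻¹) * (c x : G)⁻¹ := by rw [hc x _ h1, hc y t ht]
          _ = _ := by push_cast; group }
  refine ⟨e.toMonoidHom.comp f, ?_⟩
  rw [eq_top_iff]
  intro j _
  refine ⟨(e.symm j : N), (e.symm j).2, ?_⟩
  have h1 : f (e.symm j : N) = e.symm j := by
    apply huniq
    intro t ht
    exact (hc _ t ht).symm
  change e (f _) = j
  rw [h1, MulEquiv.apply_symm_apply]

/-- minimal normal subgroups of order divisible by two big primes -/
theorem minimal_hom (S : JSpec A) (hI : InS A G) (F : JFacts J)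
    (hiso : ∀ T : Subgroup G, IsSimpleGroup T → (¬ ∀ a b : T, a * b = b * a) → ∀ p ∈ bigP, ∀ q ∈ bigP, p ≠ q →
      p ∣ Nat.card T → q ∣ Nat.card T → Nonempty (T ≃* J))
    (N : Subgroup G) [hN : N.Normal] (hmin : ∀ M : Subgroup G, M.Normal → M ≤ N → M = ⊥ ∨ M = N)
    {p q : ℕ} (hp : p ∈ bigP) (hq : q ∈ bigP) (hpq : p ≠ q) (hpN : p ∣ Nat.card N) (hqN : q ∣ Nat.card N) :
    ∃ f : G →* J, N.map f = ⊤ := by
  have hNbot : N ≠ ⊥ := by
    rintro rfl
    rw [card_bot] at hpN
    exact (bigP_prime hp).one_lt.ne' (Nat.dvd_one.1 hpN)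
  have hna : ¬ ∀ x ∈ N, ∀ y ∈ N, Commute x y := by
    intro hab
    obtain ⟨r, hr, hrN, -⟩ := Lib.MinNormalNonabelian.abelian_structure N hNbot hmin hab
    have : Fact r.Prime := ⟨hr⟩
    obtain ⟨k, hk⟩ := IsPGroup.iff_card.1 hrN
    rw [hk] at hpN hqN
    have h1 := (Nat.prime_dvd_prime_iff_eq (bigP_prime hp) hr).1 ((bigP_prime hp).dvd_of_dvd_pow hpN)
    have h2 := (Nat.prime_dvd_prime_iff_eq (bigP_prime hq) hr).1 ((bigP_prime hq).dvd_of_dvd_pow hqN)
    exact hpq (h1.trans h2.symm)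
  obtain ⟨⟨T, hT⟩, hind, hsup, hsimp, hctr, hconj⟩ := Lib.MinNormalNonabelian.nonabelian_structure N hmin hna
  have hdvd : ∀ r : ℕ, r.Prime → r ∣ Nat.card N → ∀ U ∈ Lib.MinNormalNonabelian.minSet N, r ∣ Nat.card U := by
    intro r hr hrN U hU
    obtain ⟨m, Ts, hm, hle, hs, hnorm, -, hcomm, -, hind', hsup'⟩ :=
      Lib.MinNormal.exists_internal_decomposition N hNbot hmin
    obtain ⟨e⟩ := Lib.MinNormal.mulEquiv_pi_of_iSupIndep Ts (fun i j hij x y hx hy => hcomm i j hij x hx y hy)
      hind' hsup'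
    have h1 : Nat.card N = ∏ i, Nat.card (Ts i) := by
      rw [Nat.card_congr e.toEquiv, Nat.card_pi]
    rw [h1] at hrN
    obtain ⟨i, -, hi⟩ := (Prime.dvd_finsetProd_iff hr.prime _).1 hrN
    have hTi : Ts i ∈ Lib.MinNormalNonabelian.minSet N := by
      have := hs i
      refine ⟨hle i, (Subgroup.nontrivial_iff_ne_bot (Ts i)).1 inferInstance, hnorm i, fun M hM hMn => ?_⟩
      have hn : (M.subgroupOf (Ts i)).Normal :=
        normal_subgroupOf_of_le_normalizer ((hle i).trans hMn)
      rcases hn.eq_bot_or_eq_top with h | h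
      · left
        rw [subgroupOf_eq_bot] at h
        rw [eq_bot_iff]
        intro x hx
        exact (disjoint_iff.1 h) ▸ mem_inf.2 ⟨hx, hM hx⟩
      · right
        exact le_antisymm hM (subgroupOf_eq_top.1 h)
    obtain ⟨g, hg⟩ := hconj _ hTi U hU
    have h2 : Nat.card U = Nat.card (Ts i) := by
      rw [hg]
      exact Nat.card_congr ((Ts i).equivMapOfInjective _ (MulAut.conj g).injective).symm.toEquiv
    rwa [h2]
  have hisoU : ∀ U ∈ Lib.MinNormalNonabelian.minSet N, Nonempty (U ≃* J) := by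
    intro U hU
    refine hiso U (hsimp U hU) ?_ p hp q hq hpq (hdvd p (bigP_prime hp) hpN U hU) (hdvd q (bigP_prime hq) hqN U hU)
    intro hab
    have h1 : U = ⊥ := by
      rw [eq_bot_iff]
      intro z hz
      exact mem_bot.2 (hctr U hU z hz fun t ht => congrArg Subtype.val (hab ⟨z, hz⟩ ⟨t, ht⟩))
    exact hU.2.1 h1
  have hcommU : ∀ U ∈ Lib.MinNormalNonabelian.minSet N, ∀ V ∈ Lib.MinNormalNonabelian.minSet N, U ≠ V →
      ∀ x ∈ U, ∀ y ∈ V, x * y = y * x := fun U hU V hV hUV x hx y hy =>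
    (Lib.MinNormal.commute_of_mem hind (fun S hS => hS.2.2.1) (fun S hS => hS.1) hU hV hUV hx hy).eq
  by_cases honly : ∀ U ∈ Lib.MinNormalNonabelian.minSet N, U = T
  · have h1 : Lib.MinNormalNonabelian.minSet N = {T} := by
      ext U
      exact ⟨fun h => honly U h, fun h => by rw [Set.mem_singleton_iff.1 h]; exact hT⟩
    rw [h1, sSup_singleton] at hsup
    subst hsup
    obtain ⟨e⟩ := hisoU T hT
    exact exists_hom F e
  · exfalso
    push Not at honly
    obtain ⟨U, hU, hUT⟩ := honly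
    by_cases hthree : ∃ V ∈ Lib.MinNormalNonabelian.minSet N, V ≠ T ∧ V ≠ U
    · obtain ⟨V, hV, hVT, hVU⟩ := hthree
      obtain ⟨eT⟩ := hisoU T hT
      obtain ⟨eU⟩ := hisoU U hU
      obtain ⟨eV⟩ := hisoU V hV
      obtain ⟨x, hx, hxo⟩ := F.exists_prime eT (p := 23) (by decide)
      obtain ⟨y, hy, hyo⟩ := F.exists_prime eU (p := 29) (by decide)
      obtain ⟨z, hz, hzo⟩ := F.exists_prime eV (p := 31) (by decide)
      exact no3 S hI (p := 23) (q := 29) (r := 31) (by decide) (by decide) (by norm_num) (by norm_num) (by norm_num)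
        (by norm_num) hxo hyo hzo (hcommU T hT U hU hUT.symm x hx y hy) (hcommU T hT V hV hVT.symm x hx z hz)
        (hcommU U hU V hV hVU.symm y hy z hz)
    · push Not at hthree
      obtain ⟨g, hg⟩ := hconj T hT U hU
      have hgU : U.map (MulAut.conj g).toMonoidHom = T := by
        have h1 := Lib.MinNormalNonabelian.map_conj_mem_minSet hU g
        by_contra h2
        have h3 := hthree _ h1 h2
        have h4 : T.map (MulAut.conj g).toMonoidHom = U.map (MulAut.conj g).toMonoidHom := by rw [h3, ← hg]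
        exact hUT (Subgroup.map_injective (MulAut.conj g).injective h4).symm
      obtain ⟨eT⟩ := hisoU T hT
      refine swap_false S hI F eT (hcommU T hT U hU hUT.symm) (g := g) ?_ ?_
      · intro t ht
        rw [hg]
        exact ⟨t, ht, rfl⟩
      · apply mem_normalizer_of_map_conj
        rw [pow_two, ← Lib.MinNormal.map_conj_map_conj, ← hg, hgU]

/-- chief factors of order divisible by two big primes -/
theorem chief_hom (S : JSpec A) (hI : InS A G) (F : JFacts J)
    (hiso : ∀ K : Subgroup G, ∀ [K.Normal], ∀ T : Subgroup (G ⧸ K), IsSimpleGroup T → (¬ ∀ a b : T, a * b = b * a) →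
      ∀ p ∈ bigP, ∀ q ∈ bigP, p ≠ q → p ∣ Nat.card T → q ∣ Nat.card T → Nonempty (T ≃* J))
    {K N : Subgroup G} (hKN : IsChief K N) (hnot : ¬ AM1 bigP (K.relIndex N)) :
    ∃ f : G →* J, N.map f = ⊤ := by
  have hK := hKN.nK
  have hN := hKN.nN
  unfold AM1 at hnot
  push Not at hnot
  obtain ⟨p, hp, q, hq, hpd, hqd, hpq⟩ := hnot
  have hcard : Nat.card (N.map (QuotientGroup.mk' K)) = K.relIndex N := by
    rw [← relIndex_ker, QuotientGroup.ker_mk']
  have hmin : ∀ M : Subgroup (G ⧸ K), M.Normal → M ≤ N.map (QuotientGroup.mk' K) →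
      M = ⊥ ∨ M = N.map (QuotientGroup.mk' K) := by
    intro M hM hMN
    have h1 : (M.comap (QuotientGroup.mk' K)).Normal := hM.comap _
    have h2 : K ≤ M.comap (QuotientGroup.mk' K) := by
      intro k hk
      rw [mem_comap]
      have : QuotientGroup.mk' K k = 1 := (QuotientGroup.eq_one_iff k).2 hk
      rw [this]
      exact one_mem _
    have h3 : M.comap (QuotientGroup.mk' K) ≤ N := by
      have := comap_mono (f := QuotientGroup.mk' K) hMN
      rwa [comap_map_eq, QuotientGroup.ker_mk', sup_eq_left.2 hKN.lt.le] at this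
    have h4 : (M.comap (QuotientGroup.mk' K)).map (QuotientGroup.mk' K) = M :=
      map_comap_eq_self_of_surjective (QuotientGroup.mk'_surjective K) M
    rcases hKN.min _ h1 h2 h3 with h5 | h5
    · left
      rw [← h4, h5, eq_bot_iff]
      rintro _ ⟨k, hk, rfl⟩
      exact mem_bot.2 ((QuotientGroup.eq_one_iff k).2 hk)
    · right
      rw [← h4, h5]
  have hNn : (N.map (QuotientGroup.mk' K)).Normal := Normal.map hN _ (QuotientGroup.mk'_surjective K)
  obtain ⟨f, hf⟩ := minimal_hom S (hI.quotient S K) F (hiso K) (N.map (QuotientGroup.mk' K))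
    hmin hp hq hpq (by rwa [hcard]) (by rwa [hcard])
  refine ⟨f.comp (QuotientGroup.mk' K), ?_⟩
  rw [← map_map, hf]

end Cfsg.Agent.H370
end

-- part: H370/Norm
section
/-!
# Frobenius groups acting on elementary abelian groups; `J₄ × J₄`-modules (helper370)
-/

set_option autoImplicit false
set_option linter.unusedSectionVars false

namespace Cfsg.Agent.H370.Norm

open Subgroup Finset

section frobenius

variable {H V : Type*} [Group H] [CommGroup V] (θ : H →* MulAut V)

/-- If the norm of `y` vanishes on `W`, then each element of `W` of `U`-norm one is killed by `|U|`. -/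
theorem pow_card_eq_one {U : Subgroup H} [Finite U] {y : H} {n : ℕ} (hn : 0 < n) (hy : y ∈ normalizer (U : Set H))
    (hfpf : ∀ i : ℕ, 0 < i → i < n → ∀ u ∈ U, y ^ i * u = u * y ^ i → u = 1) {W : Subgroup V}
    (hW : ∀ u ∈ U, ∀ v ∈ W, θ u v ∈ W) (hN : ∀ v ∈ W, ∏ i ∈ range n, θ (y ^ i) v = 1) [Fintype U] {v : V}
    (hv : v ∈ W) (hUv : ∏ u : U, θ u v = 1) : v ^ Nat.card U = 1 := by
  have h1 : ∏ u : U, θ u (∏ i ∈ range n, θ (y ^ i) (θ (u : H)⁻¹ v)) = 1 := by
    apply Finset.prod_eq_one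
    intro u _
    rw [hN _ (hW _ (inv_mem u.2) v hv), map_one]
  have h2 : ∀ u : U, θ u (∏ i ∈ range n, θ (y ^ i) (θ (u : H)⁻¹ v)) =
      ∏ i ∈ range n, θ ((u : H) * y ^ i * (u : H)⁻¹) v := by
    intro u
    rw [map_prod]
    apply Finset.prod_congr rfl
    intro i _
    rw [map_mul, map_mul]
    rfl
  rw [Finset.prod_congr rfl (fun u _ => h2 u), Finset.prod_comm] at h1
  have h3 : ∀ i ∈ range n, ∏ u : U, θ ((u : H) * y ^ i * (u : H)⁻¹) v = if i = 0 then v ^ Nat.card U else 1 := by
    intro i hi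
    by_cases h0 : i = 0
    · subst h0
      rw [if_pos rfl]
      rw [Finset.prod_congr rfl (g := fun _ => v) (fun u _ => by
        rw [pow_zero, mul_one, mul_inv_cancel, map_one]; rfl)]
      rw [Finset.prod_const, Finset.card_univ, Nat.card_eq_fintype_card]
    · rw [if_neg h0]
      have hyi : y ^ i ∈ normalizer (U : Set H) := pow_mem hy i
      have hyi' : (y ^ i)⁻¹ ∈ normalizer (U : Set H) := inv_mem hyi
      -- the bijection `u ↦ u (y^i u⁻¹ y^-i)`
      let φ : U → U := fun u => ⟨(u : H) * (y ^ i * (u : H)⁻¹ * (y ^ i)⁻¹), mul_mem u.2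
        ((mem_normalizer_iff.1 hyi _).1 (inv_mem u.2))⟩
      have hφ : Function.Injective φ := by
        intro a b hab
        have h4 : (a : H) * (y ^ i * (a : H)⁻¹ * (y ^ i)⁻¹) = (b : H) * (y ^ i * (b : H)⁻¹ * (y ^ i)⁻¹) :=
          congrArg Subtype.val hab
        have h5 : y ^ i * ((a : H)⁻¹ * b) = ((a : H)⁻¹ * b) * y ^ i := by
          have h6 : (b : H)⁻¹ * a * (y ^ i * (a : H)⁻¹ * (y ^ i)⁻¹) = y ^ i * (b : H)⁻¹ * (y ^ i)⁻¹ := by
            rw [mul_assoc, h4]; group
          have h7 : (b : H)⁻¹ * a * y ^ i = y ^ i * (b : H)⁻¹ * a := by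
            have h8 := congrArg (fun z => z * (y ^ i * a)) h6
            calc (b : H)⁻¹ * a * y ^ i = (b : H)⁻¹ * a * (y ^ i * (a : H)⁻¹ * (y ^ i)⁻¹) * (y ^ i * a) := by group
              _ = y ^ i * (b : H)⁻¹ * (y ^ i)⁻¹ * (y ^ i * a) := h8
              _ = _ := by group
          calc y ^ i * ((a : H)⁻¹ * b) = ((a : H)⁻¹ * b) * ((b : H)⁻¹ * a * y ^ i) * ((a : H)⁻¹ * b) := by group
            _ = ((a : H)⁻¹ * b) * (y ^ i * (b : H)⁻¹ * a) * ((a : H)⁻¹ * b) := by rw [h7]
            _ = _ := by group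
        have h6 := hfpf i (Nat.pos_of_ne_zero h0) (mem_range.1 hi) _ (mul_mem (inv_mem a.2) b.2) h5
        exact Subtype.ext (inv_mul_eq_one.1 h6)
      have hφb : Function.Bijective φ := (Finite.injective_iff_bijective).1 hφ
      have h4 : ∏ u : U, θ ((u : H) * y ^ i * (u : H)⁻¹) v = ∏ u : U, θ ((φ u : H) * y ^ i) v := by
        apply Finset.prod_congr rfl
        intro u _
        congr 2
        change _ = (u : H) * (y ^ i * (u : H)⁻¹ * (y ^ i)⁻¹) * y ^ i
        group
      rw [h4, hφb.prod_comp (fun u : U => θ ((u : H) * y ^ i) v)]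
      -- move `y ^ i` to the front
      let ψ : U → U := fun u => ⟨(y ^ i)⁻¹ * (u : H) * (y ^ i)⁻¹⁻¹, (mem_normalizer_iff.1 hyi' _).1 u.2⟩
      have hψ : Function.Injective ψ := by
        intro a b hab
        have h4 : (y ^ i)⁻¹ * (a : H) * (y ^ i)⁻¹⁻¹ = (y ^ i)⁻¹ * (b : H) * (y ^ i)⁻¹⁻¹ := congrArg Subtype.val hab
        exact Subtype.ext (mul_left_cancel (mul_right_cancel h4))
      have hψb : Function.Bijective ψ := (Finite.injective_iff_bijective).1 hψ
      have h5 : ∏ u : U, θ ((u : H) * y ^ i) v = ∏ u : U, θ (y ^ i) (θ ((ψ u : U) : H) v) := by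
        apply Finset.prod_congr rfl
        intro u _
        have h6 : (u : H) * y ^ i = y ^ i * ((ψ u : U) : H) := by
          change _ = y ^ i * ((y ^ i)⁻¹ * (u : H) * (y ^ i)⁻¹⁻¹)
          group
        rw [h6, map_mul]
        rfl
      rw [h5, ← map_prod, hψb.prod_comp (fun u : U => θ (u : H) v), hUv, map_one]
  rw [Finset.prod_congr rfl h3, Finset.prod_ite_eq' (range n) 0 (fun _ => v ^ Nat.card U), if_pos (mem_range.2 hn)] at h1
  exact h1

/-- **The norm of a Frobenius complement does not vanish.** -/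
theorem norm_ne {U : Subgroup H} [Finite U] {y : H} {n : ℕ} (hn : 0 < n) (hy : y ∈ normalizer (U : Set H))
    (hfpf : ∀ i : ℕ, 0 < i → i < n → ∀ u ∈ U, y ^ i * u = u * y ^ i → u = 1) {W : Subgroup V}
    (hW : ∀ u ∈ U, ∀ v ∈ W, θ u v ∈ W) (hcop : ∀ v : V, v ^ Nat.card U = 1 → v = 1)
    (hnc : ∃ u ∈ U, ∃ v ∈ W, θ u v ≠ v) : ∃ v ∈ W, ∏ i ∈ range n, θ (y ^ i) v ≠ 1 := by
  by_contra hno
  push Not at hno
  have : Fintype U := Fintype.ofFinite U
  obtain ⟨u, hu, v, hv, hne⟩ := hnc
  apply hne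
  have h1 : θ u v * v⁻¹ = 1 := by
    apply hcop
    apply pow_card_eq_one θ hn hy hfpf hW hno (mul_mem (hW u hu v hv) (inv_mem hv))
    have h2 : ∏ x : U, θ x (θ u v * v⁻¹) = (∏ x : U, θ ((x * ⟨u, hu⟩ : U) : H) v) * (∏ x : U, θ x v)⁻¹ := by
      rw [← Finset.prod_inv_distrib, ← Finset.prod_mul_distrib]
      apply Finset.prod_congr rfl
      intro x _
      rw [map_mul, map_inv]
      congr 1
      push_cast
      rw [map_mul]
      rfl
    rw [h2, (Group.mulRight_bijective (⟨u, hu⟩ : U)).prod_comp (fun x : U => θ (x : H) v), mul_inv_cancel]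
  rwa [mul_inv_eq_one] at h1

/-- the norm is a fixed point -/
theorem norm_fixed {y : H} {n : ℕ} (hy : y ^ n = 1) (v : V) :
    θ y (∏ i ∈ range n, θ (y ^ i) v) = ∏ i ∈ range n, θ (y ^ i) v := by
  rw [map_prod]
  have h1 : ∀ i ∈ range n, θ y (θ (y ^ i) v) = θ (y ^ (i + 1)) v := by
    intro i _
    rw [pow_succ', map_mul]
    rfl
  rw [Finset.prod_congr rfl h1]
  have h2 := Finset.prod_range_succ' (fun i => θ (y ^ i) v) n
  have h3 := Finset.prod_range_succ (fun i => θ (y ^ i) v) n
  rw [h3] at h2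
  have h4 : θ (y ^ n) v = θ (y ^ 0) v := by rw [hy, pow_zero]
  rw [h4] at h2
  exact (mul_right_cancel h2).symm

end frobenius

section simple

variable {J V : Type*} [Group J] [Finite J] [CommGroup V] (η : J →* MulAut V)

/-- if a nontrivial subgroup acts trivially on `W`, all of the simple group does -/
theorem trivial_of (hJ : IsSimpleGroup J) {D : Subgroup J} (hD : D ≠ ⊥) {W : Subgroup V}
    (hW : ∀ j : J, ∀ v ∈ W, η j v ∈ W) (h : ∀ d ∈ D, ∀ v ∈ W, η d v = v) : ∀ j : J, ∀ v ∈ W, η j v = v := by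
  let K : Subgroup J :=
    { carrier := {j | ∀ v ∈ W, η j v = v}
      one_mem' := fun v _ => by rw [map_one]; rfl
      mul_mem' := by
        intro a b ha hb v hv
        rw [map_mul]
        change η a (η b v) = v
        rw [hb v hv, ha v hv]
      inv_mem' := by
        intro a ha v hv
        have h1 := ha v hv
        have h2 : η a⁻¹ (η a v) = v := by
          have : (η a⁻¹ * η a) v = v := by rw [← map_mul, inv_mul_cancel, map_one]; rfl
          exact this
        rw [h1] at h2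
        exact h2 }
  have hK : K.Normal := ⟨by
    intro a ha g v hv
    have h1 := ha _ (hW g⁻¹ v hv)
    have h2 : η (g * a * g⁻¹) v = η g (η a (η g⁻¹ v)) := by rw [map_mul, map_mul]; rfl
    rw [h2, h1]
    have : (η g * η g⁻¹) v = v := by rw [← map_mul, mul_inv_cancel, map_one]; rfl
    exact this⟩
  have hDK : D ≤ K := fun d hd v hv => h d hd v hv
  rcases hK.eq_bot_or_eq_top with h1 | h1
  · exact absurd (le_bot_iff.1 (h1 ▸ hDK)) hD
  · intro j
    have : j ∈ K := h1 ▸ mem_top j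
    exact this

/-- nontrivial action: nonvanishing norm -/
theorem exists_norm (hJ : IsSimpleGroup J) {D : Subgroup J} {y : J} {n : ℕ} (hn : 0 < n) (hD : D ≠ ⊥)
    (hy : y ∈ normalizer (D : Set J)) (hfpf : ∀ i : ℕ, 0 < i → i < n → ∀ u ∈ D, y ^ i * u = u * y ^ i → u = 1)
    {W : Subgroup V} (hW : ∀ j : J, ∀ v ∈ W, η j v ∈ W) (hcop : ∀ v : V, v ^ Nat.card D = 1 → v = 1)
    (hnt : ∃ j : J, ∃ v ∈ W, η j v ≠ v) : ∃ v ∈ W, ∏ i ∈ range n, η (y ^ i) v ≠ 1 := by
  apply norm_ne η hn hy hfpf (fun u _ v hv => hW u v hv) hcop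
  by_contra hno
  push Not at hno
  obtain ⟨j, v, hv, hne⟩ := hnt
  exact hne (trivial_of η hJ hD hW hno j v hv)

/-- fixed points of Frobenius complements -/
theorem exists_fixed (hJ : IsSimpleGroup J) {D : Subgroup J} {y : J} {n : ℕ} (hn : 0 < n) (hyn : y ^ n = 1) (hD : D ≠ ⊥)
    (hy : y ∈ normalizer (D : Set J)) (hfpf : ∀ i : ℕ, 0 < i → i < n → ∀ u ∈ D, y ^ i * u = u * y ^ i → u = 1)
    {W : Subgroup V} (hWb : W ≠ ⊥) (hW : ∀ j : J, ∀ v ∈ W, η j v ∈ W) (hcop : ∀ v : V, v ^ Nat.card D = 1 → v = 1) :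
    ∃ w ∈ W, w ≠ 1 ∧ η y w = w := by
  by_cases hnt : ∃ j : J, ∃ v ∈ W, η j v ≠ v
  · obtain ⟨v, hv, hne⟩ := exists_norm η hJ hn hD hy hfpf hW hcop hnt
    exact ⟨_, prod_mem fun i _ => hW _ v hv, hne, norm_fixed η hyn v⟩
  · push Not at hnt
    obtain ⟨w, hw, h1⟩ := (Subgroup.bot_or_exists_ne_one W).resolve_left hWb
    exact ⟨w, hw, h1, hnt y w hw⟩

end simple

end Cfsg.Agent.H370.Norm
end

-- part: H370/ModJJ
section
/-!
# Irreducible modules of `J₄ × J₄` (helper370)
-/

set_option autoImplicit false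
set_option linter.unusedSectionVars false

namespace Cfsg.Agent.H370.Norm

open Subgroup Finset

variable {A : Set ℕ} {J V : Type*} [Group J] [Finite J] [CommGroup V] [Finite V]

theorem eq_one_of_coprime_pow {V : Type*} [Group V] {v : V} {m n : ℕ} (hm : v ^ m = 1) (hn : v ^ n = 1)
    (h : Nat.Coprime m n) : v = 1 := by
  have h1 : orderOf v ∣ 1 := by
    rw [← h.gcd_eq_one]
    exact Nat.dvd_gcd (orderOf_dvd_of_pow_eq_one hm) (orderOf_dvd_of_pow_eq_one hn)
  exact orderOf_eq_one_iff.1 (Nat.dvd_one.1 h1)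

/-- Frobenius property of an elementary abelian 2-group and an element of big order -/
theorem fpf_two (F : JFacts J) {p : ℕ} (hp : p ∈ bigP) (hp2 : p ≠ 2) {y : J} (hy : orderOf y = p) {D : Subgroup J}
    (hD : ∀ d ∈ D, d ^ 2 = 1) : ∀ i : ℕ, 0 < i → i < p → ∀ u ∈ D, y ^ i * u = u * y ^ i → u = 1 := by
  intro i h0 hi u hu hc
  have hpp := bigP_prime hp
  have h1 : orderOf (y ^ i) = p := by
    rw [orderOf_pow, hy, Nat.Coprime.gcd_eq_one, Nat.div_one]
    exact (Nat.coprime_primes hpp hpp).not.2 (fun h => h rfl) |> fun _ =>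
      (Nat.Prime.coprime_iff_not_dvd hpp).2 (fun h => by have := Nat.le_of_dvd h0 h; omega)
  obtain ⟨k, hk⟩ := mem_zpowers_iff.1 (F.cc p hp (y ^ i) h1 u hc.symm)
  have h2 : u ^ p = 1 := by
    rw [← hk, ← zpow_natCast, ← zpow_mul, mul_comm, zpow_mul, zpow_natCast]
    have : (y ^ i) ^ p = 1 := by rw [← h1, pow_orderOf_eq_one]
    rw [this, one_zpow]
  exact eq_one_of_coprime_pow h2 (hD u hu) ((Nat.coprime_primes hpp Nat.prime_two).2 hp2)

/-- Frobenius property of a normaliser of a big Sylow subgroup -/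
theorem fpf_big (F : JFacts J) {p n : ℕ} (hp : p ∈ bigP) {a c : J} (ha : orderOf a = p) (hc : orderOf c = n)
    (hcop : Nat.Coprime n p) : ∀ i : ℕ, 0 < i → i < n → ∀ u ∈ zpowers a, c ^ i * u = u * c ^ i → u = 1 := by
  intro i h0 hi u hu hcu
  by_contra h1
  have hpp := bigP_prime hp
  have : Fact p.Prime := ⟨hpp⟩
  have h2 : u ^ p = 1 := by
    obtain ⟨k, hk⟩ := mem_zpowers_iff.1 hu
    rw [← hk, ← zpow_natCast, ← zpow_mul, mul_comm, zpow_mul, zpow_natCast, ← ha, pow_orderOf_eq_one, one_zpow]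
  have h3 : orderOf u = p := orderOf_eq_prime h2 h1
  obtain ⟨k, hk⟩ := mem_zpowers_iff.1 (F.cc p hp u h3 (c ^ i) hcu)
  have h4 : (c ^ i) ^ p = 1 := by
    rw [← hk, ← zpow_natCast, ← zpow_mul, mul_comm, zpow_mul, zpow_natCast, h2, one_zpow]
  have h5 : (c ^ i) ^ n = 1 := by
    rw [← pow_mul, mul_comm, pow_mul, ← hc, pow_orderOf_eq_one, one_pow]
  have h6 : c ^ i = 1 := eq_one_of_coprime_pow h5 h4 hcop
  have h7 := orderOf_dvd_of_pow_eq_one h6
  rw [hc] at h7
  have := Nat.le_of_dvd h0 h7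
  omega

structure ModHyp (A : Set ℕ) (θ : J × J →* MulAut V) (s : ℕ) : Prop where
  hs : s.Prime
  exp : ∀ v : V, v ^ s = 1
  nt : Nontrivial V
  irr : ∀ W : Subgroup V, (∀ x : J × J, ∀ v ∈ W, θ x v ∈ W) → W = ⊥ ∨ W = ⊤
  fix : ∀ x : J × J, ∀ n : ℕ, orderOf x = n → ¬ s ∣ n → s * n ∉ A → ∀ v : V, θ x v = v → v = 1
  big : s = 2 → ∀ x : J × J, orderOf x = 308 → ∀ v : V, ∏ i ∈ range 308, θ (x ^ i) v = 1

/-- the fixed points of an element -/
def fixW {H : Type*} [Group H] (θ : H →* MulAut V) (x : H) : Subgroup V where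
  carrier := {v | θ x v = v}
  one_mem' := map_one _
  mul_mem' := by
    intro a b ha hb
    change θ x (a * b) = a * b
    rw [map_mul, ha, hb]
  inv_mem' := by
    intro a ha
    change θ x a⁻¹ = a⁻¹
    rw [map_inv, ha]

theorem mem_fixW {H : Type*} [Group H] {θ : H →* MulAut V} {x : H} {v : V} : v ∈ fixW θ x ↔ θ x v = v := Iff.rfl

theorem fixW_inv {H : Type*} [Group H] {θ : H →* MulAut V} {x y : H} (h : x * y = y * x) {v : V}
    (hv : v ∈ fixW θ x) : θ y v ∈ fixW θ x := by
  rw [mem_fixW] at hv ⊢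
  have h1 : θ x (θ y v) = θ (x * y) v := by rw [map_mul]; rfl
  rw [h1, h, map_mul]
  change θ y (θ x v) = _
  rw [hv]

variable {θ : J × J →* MulAut V} {s : ℕ}

theorem ModHyp.swap (h : ModHyp A θ s) : ModHyp A (θ.comp (MulEquiv.prodComm (M := J) (N := J)).toMonoidHom) s := by
  have hord : ∀ x : J × J, orderOf (MulEquiv.prodComm x) = orderOf x := fun x => MulEquiv.orderOf_eq _ x
  refine ⟨h.hs, h.exp, h.nt, fun W hW => h.irr W fun x v hv => ?_, fun x n hx hsn hsA v hv => ?_, fun h2 x hx v => ?_⟩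
  · exact hW (MulEquiv.prodComm x) v hv
  · exact h.fix (MulEquiv.prodComm x) n (by rw [hord, hx]) hsn hsA v hv
  · have := h.big h2 (MulEquiv.prodComm x) (by rw [hord, hx]) v
    rw [← this]
    apply Finset.prod_congr rfl
    intro i _
    rfl

theorem orderOf_pair {x y : J} {m n : ℕ} (hx : orderOf x = m) (hy : orderOf y = n) : orderOf (x, y) = Nat.lcm m n := by
  rw [Prod.orderOf, hx, hy]

/-- the elements `(y, 1)` have fixed points, for `y` a big Frobenius complement of a 2-group, `s` odd -/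
theorem ModHyp.fixed_left (h : ModHyp A θ s) (F : JFacts J) (hs2 : s ≠ 2) {p : ℕ} (hp : p ∈ bigP) {D : Subgroup J} {y : J}
    (hD2 : ∀ d ∈ D, d ^ 2 = 1) (hD : D ≠ ⊥) (hy : orderOf y = p) (hyD : y ∈ normalizer (D : Set J)) {W : Subgroup V}
    (hWb : W ≠ ⊥) (η : J →* MulAut V) (hW : ∀ j : J, ∀ v ∈ W, η j v ∈ W) : ∃ w ∈ W, w ≠ 1 ∧ η y w = w := by
  have hpp := bigP_prime hp
  refine exists_fixed η F.simple hpp.pos (by rw [← hy, pow_orderOf_eq_one]) hD hyD
    (fpf_two F hp (by rintro rfl; revert hp; decide) hy hD2) hWb hW ?_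
  intro v hv
  have : Fact (Nat.Prime 2) := ⟨Nat.prime_two⟩
  obtain ⟨k, hk⟩ := IsPGroup.iff_card.1 (show IsPGroup 2 D from fun d => ⟨1, Subtype.ext (by
    rw [pow_one]; exact hD2 d d.2)⟩)
  rw [hk] at hv
  exact eq_one_of_coprime_pow (h.exp v) hv (Nat.Coprime.pow_right k ((Nat.coprime_primes h.hs Nat.prime_two).2 hs2))

/-- odd characteristic -/
theorem ModHyp.odd_false (h : ModHyp A θ s) (S : JSpec A) (F : JFacts J) (hs2 : s ≠ 2) : False := by
  obtain ⟨D1, y1, hD1, hD1b, hy1, hy1D⟩ := F.two31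
  obtain ⟨D2, y2, hD2, hD2b, hy2, hy2D⟩ := F.two23
  have hVb : (⊤ : Subgroup V) ≠ ⊥ := by
    have := h.nt
    exact top_ne_bot
  have main : ∀ p ∈ bigP, p ≠ s → ∀ (D : Subgroup J) (y : J), (∀ d ∈ D, d ^ 2 = 1) → D ≠ ⊥ → orderOf y = p →
      y ∈ normalizer (D : Set J) → s ∈ bigP → False := by
    intro p hp hps D y hD hDb hy hyD hsb
    obtain ⟨w, -, hw1, hw⟩ := h.fixed_left F hs2 hp hD hDb hy hyD hVb (θ.comp (MonoidHom.inl J J))
      (fun _ _ _ => mem_top _)
    have hWne : fixW θ (y, (1 : J)) ≠ ⊥ := by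
      intro hb
      have : w ∈ fixW θ (y, (1 : J)) := hw
      rw [hb, mem_bot] at this
      exact hw1 this
    -- two commuting involutions of the second factor
    obtain ⟨d, hd, hd1⟩ := Act.exists_ne_one hD1b
    have he : y1 * d * y1⁻¹ ∈ D1 := (mem_normalizer_iff.1 hy1D d).1 hd
    have hne : y1 * d * y1⁻¹ ≠ d := by
      intro h1
      apply hd1
      refine fpf_two F (p := 31) (by decide) (by norm_num) hy1 hD1 1 one_pos (by norm_num) d hd ?_
      rw [pow_one]
      calc y1 * d = y1 * d * y1⁻¹ * y1 := by group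
        _ = d * y1 := by rw [h1]
    -- no involution of the second factor has fixed points on `fixW (y,1)`
    have hinv : ∀ e : J, e ^ 2 = 1 → e ≠ 1 → ∀ v : V, v ∈ fixW θ (y, (1 : J)) → θ ((1 : J), e) v = v → v = 1 := by
      intro e he1 he2 v hv hev
      have hoe : orderOf e = 2 := orderOf_eq_prime he1 he2
      have hord : orderOf (y, e) = p * 2 := by
        rw [orderOf_pair hy hoe]
        exact Nat.Coprime.lcm_eq_mul ((Nat.coprime_primes (bigP_prime hp) Nat.prime_two).2 (by rintro rfl; revert hp; decide))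
      refine h.fix (y, e) (p * 2) hord ?_ ?_ v ?_
      · rw [h.hs.dvd_mul, Nat.prime_dvd_prime_iff_eq h.hs (bigP_prime hp), Nat.prime_dvd_prime_iff_eq h.hs Nat.prime_two]
        exact fun h1 => h1.elim (fun h2 => hps h2.symm) hs2
      · rw [← mul_assoc]
        exact S.three s hsb p hp hps.symm 2 Nat.prime_two hs2.symm (by rintro rfl; revert hp; decide)
      · have h1 : ((y, e) : J × J) = (y, 1) * (1, e) := by simp
        rw [h1, map_mul]
        change θ (y, 1) (θ (1, e) v) = v
        rw [hev]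
        exact hv
    have hneg : ∀ e : J, e ^ 2 = 1 → e ≠ 1 → ∀ v : V, v ∈ fixW θ (y, (1 : J)) → θ ((1 : J), e) v = v⁻¹ := by
      intro e he1 he2 v hv
      have h1 : θ ((1 : J), e) v ∈ fixW θ (y, (1 : J)) := fixW_inv (by simp) hv
      have h2 : θ ((1 : J), e) (v * θ ((1 : J), e) v) = v * θ ((1 : J), e) v := by
        rw [map_mul]
        have h3 : θ ((1 : J), e) (θ ((1 : J), e) v) = v := by
          have h4 : (θ ((1 : J), e) * θ ((1 : J), e)) v = v := by
            rw [← map_mul]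
            have h5 : ((1 : J), e) * ((1 : J), e) = 1 := by
              rw [pow_two] at he1
              rw [Prod.mk_mul_mk, he1, one_mul]; rfl
            rw [h5, map_one]
            rfl
          exact h4
        rw [h3, mul_comm]
      have h3 := hinv e he1 he2 _ (mul_mem hv h1) h2
      exact (eq_inv_of_mul_eq_one_right h3)
    obtain ⟨w', hw', hw1'⟩ := (Subgroup.bot_or_exists_ne_one _).resolve_left hWne
    set e := y1 * d * y1⁻¹ with hedef
    have he1 : e ^ 2 = 1 := hD1 e he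
    have hd2 : d ^ 2 = 1 := hD1 d hd
    have hen1 : e ≠ 1 := by
      intro h1
      apply hd1
      have : d = y1⁻¹ * e * y1 := by rw [hedef]; group
      rw [this, h1]; group
    have hde1 : d * e ≠ 1 := by
      intro h1
      apply hne
      have h2 : d = e⁻¹ := eq_inv_of_mul_eq_one_left h1
      have h3 : e⁻¹ = e := by
        rw [inv_eq_iff_mul_eq_one, ← pow_two, he1]
      rw [h2, h3]
    have hde2 : (d * e) ^ 2 = 1 := hD1 _ (mul_mem hd he)
    have h1 := hneg _ hde2 hde1 w' hw'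
    have h2 : θ ((1 : J), d * e) w' = w' := by
      have h3 : ((1 : J), d * e) = ((1 : J), d) * ((1 : J), e) := by simp
      rw [h3, map_mul]
      change θ ((1 : J), d) (θ ((1 : J), e) w') = w'
      rw [hneg e he1 hen1 w' hw', map_inv, hneg d hd2 hd1 w' hw', inv_inv]
    exact hw1' (hinv _ hde2 hde1 w' hw' h2)
  by_cases hsb : s ∈ bigP
  · by_cases hs31 : s = 31
    · exact main 23 (by decide) (by rw [hs31]; norm_num) D2 y2 hD2 hD2b hy2 hy2D hsb
    · exact main 31 (by decide) (fun h1 => hs31 h1.symm) D1 y1 hD1 hD1b hy1 hy1D hsb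
  · obtain ⟨w, -, hw1, hw⟩ := h.fixed_left F hs2 (p := 31) (by decide) hD1 hD1b hy1 hy1D hVb (θ.comp (MonoidHom.inl J J))
      (fun _ _ _ => mem_top _)
    have hWne : fixW θ (y1, (1 : J)) ≠ ⊥ := by
      intro hb
      have : w ∈ fixW θ (y1, (1 : J)) := hw
      rw [hb, mem_bot] at this
      exact hw1 this
    obtain ⟨v, hv, hv1, hv2⟩ := h.fixed_left F hs2 (p := 23) (by decide) hD2 hD2b hy2 hy2D hWne (θ.comp (MonoidHom.inr J J))
      (fun j v hv => fixW_inv (by simp) hv)
    have hord : orderOf (y1, y2) = 31 * 23 := by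
      rw [orderOf_pair hy1 hy2]
      norm_num
    refine hv1 (h.fix (y1, y2) (31 * 23) hord ?_ ?_ v ?_)
    · rw [h.hs.dvd_mul, Nat.prime_dvd_prime_iff_eq h.hs (by norm_num), Nat.prime_dvd_prime_iff_eq h.hs (by norm_num)]
      rintro (rfl | rfl)
      · exact hsb (by decide)
      · exact hsb (by decide)
    · have h1 := S.three 31 (by decide) 23 (by decide) (by norm_num) s h.hs (by rintro rfl; exact hsb (by decide))
        (by rintro rfl; exact hsb (by decide))
      rwa [mul_comm] at h1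
    · have h1 : ((y1, y2) : J × J) = (1, y2) * (y1, 1) := by simp
      rw [h1, map_mul]
      change θ (1, y2) (θ (y1, 1) v) = v
      rw [mem_fixW.1 hv]
      exact hv2

/-- characteristic two, first factor acting nontrivially -/
theorem ModHyp.two_false (h : ModHyp A θ s) (F : JFacts J) (hs2 : s = 2)
    (hnt : ∃ j : J, ∃ v : V, θ (j, 1) v ≠ v) : False := by
  obtain ⟨a, c, ha, hc, hca⟩ := F.f29
  obtain ⟨b, d, hb, hd, hdb⟩ := F.f23
  have hVb : (⊤ : Subgroup V) ≠ ⊥ := by
    have := h.nt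
    exact top_ne_bot
  have hexp : ∀ v : V, v ^ 2 = 1 := fun v => hs2 ▸ h.exp v
  have hzp : ∀ {x : J} {n : ℕ}, orderOf x = n → 1 < n → zpowers x ≠ ⊥ := by
    intro x n hx hn hbot
    rw [zpowers_eq_bot] at hbot
    rw [hbot, orderOf_one] at hx
    omega
  obtain ⟨w, -, hw1, hw⟩ := exists_fixed (θ.comp (MonoidHom.inr J J)) F.simple (n := 11) (by norm_num)
    (by rw [← hd, pow_orderOf_eq_one]) (hzp hb (by norm_num)) hdb (fpf_big F (by decide) hb hd (by norm_num)) hVb
    (fun _ _ _ => mem_top _) (fun v hv => by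
      rw [Nat.card_zpowers, hb] at hv
      exact eq_one_of_coprime_pow (hexp v) hv (by norm_num))
  have hWne : fixW θ ((1 : J), d) ≠ ⊥ := by
    intro hb
    have : w ∈ fixW θ ((1 : J), d) := hw
    rw [hb, mem_bot] at this
    exact hw1 this
  have hWinv : ∀ j : J, ∀ v ∈ fixW θ ((1 : J), d), (θ.comp (MonoidHom.inl J J)) j v ∈ fixW θ ((1 : J), d) :=
    fun j v hv => fixW_inv (by simp) hv
  have hnt' : ∃ j : J, ∃ v ∈ fixW θ ((1 : J), d), (θ.comp (MonoidHom.inl J J)) j v ≠ v := by
    by_contra hno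
    push Not at hno
    -- the fixed points of the first factor
    let W : Subgroup V :=
      { carrier := {v | ∀ j : J, θ (j, 1) v = v}
        one_mem' := fun j => map_one _
        mul_mem' := by
          intro x y hx hy j
          rw [map_mul, hx j, hy j]
        inv_mem' := by
          intro x hx j
          rw [map_inv, hx j] }
    have hWi : ∀ x : J × J, ∀ v ∈ W, θ x v ∈ W := by
      intro x v hv j
      have h1 : θ (j, 1) (θ x v) = θ ((j, 1) * x) v := by rw [map_mul]; rfl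
      have h2 : ((j, 1) : J × J) * x = x * ((x.1)⁻¹ * j * x.1, 1) := by
        ext
        · simp [mul_assoc]
        · simp
      rw [h1, h2, map_mul]
      change θ x (θ _ v) = _
      rw [hv]
    rcases h.irr W hWi with h1 | h1
    · have : w ∈ W := fun j => hno j w hw
      rw [h1, mem_bot] at this
      exact hw1 this
    · obtain ⟨j, v, hjv⟩ := hnt
      have : v ∈ W := h1 ▸ mem_top v
      exact hjv (this j)
  obtain ⟨v, hv, hvn⟩ := exists_norm (θ.comp (MonoidHom.inl J J)) F.simple (n := 28) (by norm_num)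
    (hzp ha (by norm_num)) hca (fpf_big F (by decide) ha hc (by norm_num)) hWinv
    (fun v hv => by
      rw [Nat.card_zpowers, ha] at hv
      exact eq_one_of_coprime_pow (hexp v) hv (by norm_num)) hnt'
  apply hvn
  have hord : orderOf (c, d) = 308 := by
    rw [orderOf_pair hc hd]
    norm_num
  have h1 := h.big hs2 (c, d) hord v
  have h2 : ∀ i : ℕ, θ ((c, d) ^ i) v = (θ.comp (MonoidHom.inl J J)) (c ^ i) v := by
    intro i
    have h3 : ((c, d) : J × J) ^ i = (c ^ i, 1) * (1, d) ^ i := by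
      rw [Prod.pow_mk, Prod.pow_mk]
      simp
    have h4 : θ ((1, d) ^ i) v = v := by
      rw [map_pow]
      induction i with
      | zero => rfl
      | succ i ih =>
        rw [pow_succ]
        change (θ (1, d) ^ i) (θ (1, d) v) = v
        rw [mem_fixW.1 hv]
        apply ih
        rw [Prod.pow_mk, Prod.pow_mk]
        simp
    rw [h3, map_mul]
    change θ (c ^ i, 1) (θ ((1, d) ^ i) v) = _
    rw [h4]
    rfl
  rw [Finset.prod_congr rfl (fun i _ => h2 i)] at h1
  have h3 : ∀ k : ℕ, ∏ i ∈ range (28 * k), (θ.comp (MonoidHom.inl J J)) (c ^ i) v =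
      (∏ i ∈ range 28, (θ.comp (MonoidHom.inl J J)) (c ^ i) v) ^ k := by
    intro k
    induction k with
    | zero => simp
    | succ k ih =>
      rw [mul_add, mul_one, Finset.prod_range_add, ih, pow_succ]
      congr 1
      apply Finset.prod_congr rfl
      intro i _
      rw [pow_add, pow_mul, ← hc, pow_orderOf_eq_one, one_pow, one_mul]
  have h4 := h3 11
  rw [show 28 * 11 = 308 by norm_num, h1] at h4
  have h5 : (∏ i ∈ range 28, (θ.comp (MonoidHom.inl J J)) (c ^ i) v) ^ 2 = 1 := hexp _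
  exact eq_one_of_coprime_pow h5 h4.symm (by norm_num)

/-- **There are no such modules.** -/
theorem ModHyp.false (h : ModHyp A θ s) (S : JSpec A) (F : JFacts J) : False := by
  by_cases hs2 : s = 2
  · by_cases h1 : ∃ j : J, ∃ v : V, θ (j, 1) v ≠ v
    · exact h.two_false F hs2 h1
    · by_cases h2 : ∃ j : J, ∃ v : V, θ (1, j) v ≠ v
      · obtain ⟨j, v, hj⟩ := h2
        exact h.swap.two_false F hs2 ⟨j, v, hj⟩
      · push Not at h1 h2
        obtain ⟨x, hx⟩ : ∃ x : J, orderOf x = 23 := by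
          obtain ⟨a, c, ha, hc, hca⟩ := F.f23
          exact ⟨a, ha⟩
        obtain ⟨y, hy⟩ : ∃ x : J, orderOf x = 29 := by
          obtain ⟨a, c, ha, hc, hca⟩ := F.f29
          exact ⟨a, ha⟩
        have := h.nt
        obtain ⟨v, hv⟩ := exists_ne (1 : V)
        refine hv (h.fix (x, y) (23 * 29) (by rw [orderOf_pair hx hy]; norm_num) ?_ ?_ v ?_)
        · rw [hs2]; norm_num
        · rw [hs2]
          exact S.three 23 (by decide) 29 (by decide) (by norm_num) 2 Nat.prime_two (by norm_num) (by norm_num)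
        · have h3 : ((x, y) : J × J) = (1, y) * (x, 1) := by simp
          rw [h3, map_mul]
          change θ (1, y) (θ (x, 1) v) = v
          rw [h1 x v, h2 y v]
  · exact h.odd_false S F hs2

end Cfsg.Agent.H370.Norm
end

-- part: H370/StepThree
section
/-!
# A group with spectrum inside that of `J₄ × J₄` mapping onto `J₄ × J₄` (helper370)
-/

set_option autoImplicit false
set_option linter.unusedSectionVars false

namespace Cfsg.Agent.H370.StepThree

open Subgroup Finset Cfsg.Agent.H370.Norm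

universe u v

theorem exists_comm_copy {K : Type u} [Group K] (h : ∀ a b : K, a * b = b * a) :
    ∃ (W : Type u) (_ : CommGroup W), Nonempty (K ≃* W) :=
  ⟨K, { ‹Group K› with mul_comm := h }, ⟨MulEquiv.refl K⟩⟩

/-- lifting elements of order prime to the kernel -/
theorem exists_lift {G H : Type*} [Group G] [Group H] [Finite G] {f : G →* H} (hf : Function.Surjective f) {s : ℕ} (hs : s.Prime)
    (hexp : ∀ k ∈ f.ker, k ^ s = 1) {x : H} {n : ℕ} (hx : orderOf x = n) (hsn : ¬ s ∣ n) :
    ∃ g, f g = x ∧ orderOf g = n := by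
  obtain ⟨g0, rfl⟩ := hf x
  have hcop : Nat.Coprime n s := ((Nat.Prime.coprime_iff_not_dvd hs).2 hsn).symm
  obtain ⟨m, hm1, hm2⟩ := Nat.chineseRemainder hcop 1 0
  have h1 : g0 ^ n ∈ f.ker := by
    rw [MonoidHom.mem_ker, map_pow, ← hx, pow_orderOf_eq_one]
  have h2 : s ∣ m := (Nat.modEq_zero_iff_dvd).1 hm2
  have h3 : f (g0 ^ m) = f g0 := by
    rw [map_pow]
    conv_rhs => rw [← pow_one (f g0)]
    exact pow_eq_pow_iff_modEq.2 (by rw [hx]; exact hm1)
  refine ⟨g0 ^ m, h3, ?_⟩
  apply Nat.dvd_antisymm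
  · apply orderOf_dvd_of_pow_eq_one
    obtain ⟨k, rfl⟩ := h2
    rw [← pow_mul, mul_comm, ← mul_assoc, pow_mul, pow_mul, hexp _ h1, one_pow]
  · rw [← hx, ← h3]
    exact orderOf_map_dvd f _

variable {A : Set ℕ} {J : Type v} [Group J] [Finite J]

/-- the situation of a minimal kernel -/
theorem minimal_false {G : Type u} [Group G] [Finite G] (S : JSpec A) (F : JFacts J) (hI : InS A G) (f : G →* J × J)
    (hf : Function.Surjective f) (hne : f.ker ≠ ⊥) (hmin : ∀ M : Subgroup G, M.Normal → M ≤ f.ker → M = ⊥ ∨ M = f.ker)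
    (hab : ∀ x ∈ f.ker, ∀ y ∈ f.ker, Commute x y) : False := by
  obtain ⟨s, hs, -, hexp⟩ := Lib.MinNormalNonabelian.abelian_structure f.ker hne hmin hab
  obtain ⟨W, instW, ⟨e⟩⟩ := exists_comm_copy (K := f.ker) (fun a b => Subtype.ext (hab a a.2 b b.2).eq)
  have hWfin : Finite W := Finite.of_equiv _ e.toEquiv
  let θ0 : G →* MulAut W := (MulAut.congr e).toMonoidHom.comp (MulAut.conjNormal (H := f.ker))
  have hθ0 : ∀ g : G, ∀ w : W, ((e.symm (θ0 g w) : f.ker) : G) = g * (e.symm w : f.ker) * g⁻¹ := by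
    intro g w
    have h1 : θ0 g w = e (MulAut.conjNormal g (e.symm w)) := rfl
    rw [h1, MulEquiv.symm_apply_apply, MulAut.conjNormal_apply]
  have hker : f.ker ≤ θ0.ker := by
    intro k hk
    rw [MonoidHom.mem_ker]
    ext w
    have h1 : ((e.symm (θ0 k w) : f.ker) : G) = (e.symm w : f.ker) := by
      rw [hθ0, (hab k hk _ (e.symm w).2).eq, mul_inv_cancel_right]
    exact e.symm.injective (Subtype.ext h1)
  let θ : J × J →* MulAut W := f.liftOfSurjective hf ⟨θ0, hker⟩
  have hθ : ∀ g : G, θ (f g) = θ0 g := fun g => MonoidHom.liftOfRightInverse_comp_apply f _ _ ⟨θ0, hker⟩ g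
  have H : ModHyp A θ s := by
    refine ⟨hs, fun v => ?_, ?_, fun W' hW' => ?_, fun x n hx hsn hsA v hv => ?_, fun h2 x hx v => ?_⟩
    · have h1 : (e.symm v) ^ s = 1 := Subtype.ext (hexp _ (e.symm v).2)
      have h2 := congrArg e h1
      rwa [map_pow, MulEquiv.apply_symm_apply, map_one] at h2
    · have : Nontrivial f.ker := (Subgroup.nontrivial_iff_ne_bot _).2 hne
      exact e.symm.toEquiv.nontrivial
    · have hM : ((W'.comap e.toMonoidHom).map f.ker.subtype).Normal := by
        refine ⟨?_⟩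
        rintro _ ⟨k, hk, rfl⟩ g
        refine ⟨⟨g * k * g⁻¹, (inferInstance : f.ker.Normal).conj_mem k k.2 g⟩, ?_, rfl⟩
        have hk' : e k ∈ W' := hk
        have h1 := hW' (f g) (e k) hk'
        rw [hθ] at h1
        have h2 : e ⟨g * k * g⁻¹, (inferInstance : f.ker.Normal).conj_mem k k.2 g⟩ = θ0 g (e k) := by
          apply e.symm.injective
          apply Subtype.ext
          rw [hθ0, MulEquiv.symm_apply_apply, MulEquiv.symm_apply_apply]
        change e _ ∈ W'
        rw [h2]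
        exact h1
      rcases hmin _ hM (map_subtype_le _) with h1 | h1
      · left
        rw [map_eq_bot_iff_of_injective _ f.ker.subtype_injective] at h1
        rw [eq_bot_iff]
        intro w hw
        have h2 : e.symm w ∈ W'.comap e.toMonoidHom := by
          change e (e.symm w) ∈ W'
          rwa [MulEquiv.apply_symm_apply]
        rw [h1, mem_bot] at h2
        rw [mem_bot]
        have h3 := congrArg e h2
        rwa [MulEquiv.apply_symm_apply, map_one] at h3
      · right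
        rw [eq_top_iff]
        intro w _
        have h2 : ((e.symm w : f.ker) : G) ∈ (W'.comap e.toMonoidHom).map f.ker.subtype := by
          rw [h1]
          exact (e.symm w).2
        obtain ⟨k, hk, hk2⟩ := h2
        have h3 : k = e.symm w := Subtype.ext hk2
        have h4 : e k ∈ W' := hk
        rwa [h3, MulEquiv.apply_symm_apply] at h4
    · obtain ⟨g, hg, hgo⟩ := exists_lift hf hs hexp hx hsn
      by_contra hv1
      have h1 : θ0 g v = v := by rw [← hθ, hg, hv]
      have h2 := hθ0 g v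
      rw [h1] at h2
      have hcomm : Commute ((e.symm v : f.ker) : G) g := by
        have h3 : ((e.symm v : f.ker) : G) * g = g * (e.symm v : f.ker) := by
          conv_lhs => rw [h2]
          group
        exact h3
      have : Fact s.Prime := ⟨hs⟩
      have hvo : orderOf ((e.symm v : f.ker) : G) = s := by
        apply orderOf_eq_prime (hexp _ (e.symm v).2)
        intro h4
        apply hv1
        have h5 : e.symm v = 1 := Subtype.ext h4
        have h6 := congrArg e h5
        rwa [MulEquiv.apply_symm_apply, map_one] at h6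
      have h7 : orderOf (((e.symm v : f.ker) : G) * g) = s * n := by
        rw [hcomm.orderOf_mul_eq_mul_orderOf_of_coprime, hvo, hgo]
        rw [hvo, hgo]
        exact (Nat.Prime.coprime_iff_not_dvd hs).2 hsn
      exact hsA (h7 ▸ hI _)
    · subst h2
      by_contra hprod
      obtain ⟨g, rfl⟩ := hf x
      have hpow : ∀ k : ℕ, (((e.symm v : f.ker) : G) * g) ^ k =
          ((e.symm (∏ i ∈ range k, θ (f g ^ i) v) : f.ker) : G) * g ^ k := by
        intro k
        induction k with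
        | zero => simp only [_root_.pow_zero, _root_.Finset.range_zero, _root_.map_pow, _root_.Finset.prod_empty, _root_.map_one, _root_.OneMemClass.coe_one, _root_.mul_one]
        | succ k ih =>
          have h1 : ((e.symm (θ (f g ^ k) v) : f.ker) : G) = g ^ k * (e.symm v : f.ker) * (g ^ k)⁻¹ := by
            rw [← map_pow, hθ, hθ0]
          rw [pow_succ, ih, Finset.prod_range_succ, map_mul, Subgroup.coe_mul, h1]
          group
      have hP : ((e.symm (∏ i ∈ range 308, θ (f g ^ i) v) : f.ker) : G) ≠ 1 := by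
        intro h4
        apply hprod
        have h5 : e.symm (∏ i ∈ range 308, θ (f g ^ i) v) = 1 := Subtype.ext h4
        have h6 := congrArg e h5
        rwa [MulEquiv.apply_symm_apply, map_one] at h6
      have key : ∀ h : G, f h = f g → h ^ 308 = 1 := by
        intro h hfh
        by_contra h1
        have h2 : h ^ 308 ∈ f.ker := by
          rw [MonoidHom.mem_ker, map_pow, hfh, ← hx, pow_orderOf_eq_one]
        have h3 : h ^ 616 = 1 := by
          have := hexp _ h2
          rwa [← pow_mul] at this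
        have h4 : orderOf h ∣ 616 := orderOf_dvd_of_pow_eq_one h3
        have h5 : 308 ∣ orderOf h := by
          rw [← hx, ← hfh]
          exact orderOf_map_dvd f h
        have h6 : orderOf h = 616 := by
          obtain ⟨c, hc⟩ := h5
          rw [hc] at h4 ⊢
          have h7 : c ∣ 2 := by
            have : 308 * c ∣ 308 * 2 := h4
            exact (Nat.mul_dvd_mul_iff_left (by norm_num)).1 this
          rcases (Nat.dvd_prime Nat.prime_two).1 h7 with h8 | h8
          · exfalso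
            rw [h8, mul_one] at hc
            exact h1 (by rw [← hc, pow_orderOf_eq_one])
          · rw [h8]
        exact S.n616 (h6 ▸ hI h)
      apply hP
      have h1 := hpow 308
      rw [key g rfl, mul_one, key _ ?_] at h1
      · exact h1.symm
      · rw [map_mul, (e.symm v).2, one_mul]
  exact H.false S F

/-- **Step 3.** -/
theorem main (S : JSpec A) (F : JFacts J) (n : ℕ) : ∀ (G : Type u) [Group G] [Finite G], Nat.card G ≤ n → InS A G →
    ∀ f : G →* J × J, Function.Surjective f → Function.Injective f := by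
  induction n using Nat.strong_induction_on with
  | _ n ih =>
    intro G _ _ hn hI f hf
    rw [← MonoidHom.ker_eq_bot_iff]
    by_contra hne
    have hmin : ∀ M : Subgroup G, M.Normal → M ≤ f.ker → M = ⊥ ∨ M = f.ker := by
      intro M hM hMK
      by_cases hMb : M = ⊥
      · exact Or.inl hMb
      · right
        have hlt : Nat.card (G ⧸ M) < Nat.card G := by
          have h1 : 1 < Nat.card M := by
            rw [Finite.one_lt_card_iff_nontrivial, Subgroup.nontrivial_iff_ne_bot]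
            exact hMb
          have h2 := Subgroup.card_eq_card_quotient_mul_card_subgroup M
          have h3 : 0 < Nat.card (G ⧸ M) := Nat.card_pos
          nlinarith only [h1, h2, h3]
        have h1 := ih (Nat.card (G ⧸ M)) (lt_of_lt_of_le hlt hn) (G ⧸ M) le_rfl (hI.quotient S M)
          (QuotientGroup.lift M f (fun x hx => hMK hx)) (QuotientGroup.lift_surjective_of_surjective M f hf _)
        refine le_antisymm hMK fun g hg => ?_
        have h2 : QuotientGroup.lift M f (fun x hx => hMK hx) (g : G ⧸ M) = 1 := hg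
        have h3 := h1 (h2.trans (map_one _).symm)
        exact (QuotientGroup.eq_one_iff g).1 h3
    -- `f.ker` is an `s`-group
    have hcard : Nat.card f.ker ≠ 1 := fun h => hne (Subgroup.card_eq_one.1 h)
    obtain ⟨s, hs, hsd⟩ := Nat.exists_prime_and_dvd hcard
    have : Fact s.Prime := ⟨hs⟩
    obtain ⟨Q, hQK, hQp, hQi, hQN⟩ := frattini_in s (L := f.ker) (X := ⊤) le_top (by
      rw [normalizer_eq_top])
    rw [top_inf_eq] at hQN
    have hQb : Q ≠ ⊥ := by
      rintro rfl
      rw [relIndex_bot_left] at hQi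
      exact hQi hsd
    have hNtop : normalizer (Q : Set G) = ⊤ := by
      by_contra hNt
      have hlt : Nat.card (normalizer (Q : Set G)) < Nat.card G := by
        refine lt_of_le_of_ne (Nat.card_le_card_of_injective _ (Subgroup.subtype_injective _)) fun h => hNt ?_
        exact Subgroup.eq_top_of_card_eq _ h
      have h1 := ih _ (lt_of_lt_of_le hlt hn) (normalizer (Q : Set G)) le_rfl (hI.subgroup _)
        (f.comp (normalizer (Q : Set G)).subtype) (by
          intro x
          obtain ⟨g, rfl⟩ := hf x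
          have hg : g ∈ f.ker ⊔ normalizer (Q : Set G) := hQN (mem_top g)
          rw [mem_sup_of_normal_left] at hg
          obtain ⟨k, hk, m, hm, rfl⟩ := hg
          refine ⟨⟨m, hm⟩, ?_⟩
          rw [map_mul, MonoidHom.mem_ker.1 hk, one_mul]
          rfl)
      apply hQb
      rw [eq_bot_iff]
      intro q hq
      have h2 : (⟨q, le_normalizer hq⟩ : normalizer (Q : Set G)) = 1 := h1 (by
        rw [map_one]
        exact MonoidHom.mem_ker.1 (hQK hq))
      exact mem_bot.2 (congrArg Subtype.val h2)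
    have hQn : Q.Normal := normalizer_eq_top_iff.1 hNtop
    have hQe : Q = f.ker := (hmin Q hQn hQK).resolve_left hQb
    rw [hQe] at hQp
    -- abelian
    have hab : ∀ x ∈ f.ker, ∀ y ∈ f.ker, Commute x y := by
      have hnt : Nontrivial f.ker := (Subgroup.nontrivial_iff_ne_bot _).2 hne
      have hZ := hQp.center_nontrivial
      obtain ⟨⟨z, hz⟩, hz1⟩ := exists_ne (1 : center f.ker)
      have hCn : (f.ker ⊓ centralizer (f.ker : Set G)).Normal := inferInstance
      rcases hmin _ hCn inf_le_left with h1 | h1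
      · exfalso
        have h2 : (z : G) ∈ f.ker ⊓ centralizer (f.ker : Set G) := by
          refine ⟨z.2, mem_centralizer_iff.2 fun k hk => ?_⟩
          exact congrArg Subtype.val (mem_center_iff.1 hz ⟨k, hk⟩)
        rw [h1, mem_bot] at h2
        exact hz1 (Subtype.ext (Subtype.ext h2))
      · intro x hx y hy
        have h2 : y ∈ f.ker ⊓ centralizer (f.ker : Set G) := by
          rw [h1]
          exact hy
        exact mem_centralizer_iff.1 h2.2 x hx
    exact minimal_false S F hI f hf hne hmin hab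

end Cfsg.Agent.H370.StepThree
end

-- part: H370/LemFMin
section
/-!
# Minimal 2-groups with an automorphism of order 31 (helper370)
-/

set_option autoImplicit false
set_option linter.unusedSectionVars false

namespace Cfsg.Agent.H370.LemF

open Finset Subgroup

open scoped commutatorElement

variable {D : Type*} [Group D] [Finite D]

/-- 2-power order and order dividing 31 -/
theorem eq_one_of {z : D} (hD : IsPGroup 2 D) (h : z ^ 31 = 1) : z = 1 := by
  obtain ⟨k, hk⟩ := hD z
  exact Norm.eq_one_of_coprime_pow h hk (Nat.Coprime.pow_right k (by norm_num))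

theorem left_shift (hD : IsPGroup 2 D) {α : MulAut D} (hα : α ^ 31 = 1) {x z : D} (h : α x = z * x) (hz : α z = z) :
    z = 1 := by
  have h1 : ∀ n : ℕ, (α ^ n) x = z ^ n * x := by
    intro n
    induction n with
    | zero => simp
    | succ n ih =>
      rw [pow_succ']
      change α ((α ^ n) x) = _
      rw [ih, map_mul, map_pow, hz, h, pow_succ, mul_assoc]
  apply eq_one_of hD
  have h2 := h1 31
  rw [hα] at h2
  have h3 : x = z ^ 31 * x := h2
  exact (mul_eq_right.1 h3.symm)

theorem right_shift (hD : IsPGroup 2 D) {α : MulAut D} (hα : α ^ 31 = 1) {x z : D} (h : α x = x * z) (hz : α z = z) :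
    z = 1 := by
  have h1 : ∀ n : ℕ, (α ^ n) x = x * z ^ n := by
    intro n
    induction n with
    | zero => simp
    | succ n ih =>
      rw [pow_succ']
      change α ((α ^ n) x) = _
      rw [ih, map_mul, map_pow, hz, h, pow_succ', mul_assoc]
  apply eq_one_of hD
  have h2 := h1 31
  rw [hα] at h2
  have h3 : x = x * z ^ 31 := h2
  exact (mul_eq_left.1 h3.symm)

/-- all proper invariant subgroups are centralised -/
def Mini (α : MulAut D) : Prop := ∀ W : Subgroup D, (∀ w ∈ W, α w ∈ W) → W ≠ ⊤ → ∀ w ∈ W, α w = w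

theorem abelian_case (hD : IsPGroup 2 D) {α : MulAut D} (hα : α ^ 31 = 1) (hne : ∃ x, α x ≠ x) (hmin : Mini α)
    (hab : ∀ a b : D, a * b = b * a) : ∀ a : D, a ^ 2 = 1 := by
  let Ω : Subgroup D :=
    { carrier := {x | x ^ 2 = 1}
      one_mem' := one_pow 2
      mul_mem' := by
        intro a b ha hb
        change (a * b) ^ 2 = 1
        rw [(show Commute a b from hab a b).mul_pow, ha, hb, one_mul]
      inv_mem' := by
        intro a ha
        change a⁻¹ ^ 2 = 1
        rw [inv_pow, ha, inv_one] }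
  have hΩ : ∀ w ∈ Ω, α w ∈ Ω := by
    intro w hw
    have hw' : w ^ 2 = 1 := hw
    change (α w) ^ 2 = 1
    rw [← map_pow, hw', map_one]
  by_cases htop : Ω = ⊤
  · intro a
    have : a ∈ Ω := htop ▸ mem_top a
    exact this
  · exfalso
    have hfix := hmin Ω hΩ htop
    obtain ⟨x, hx⟩ := hne
    have key : ∀ k : ℕ, ∀ x : D, x ^ 2 ^ k = 1 → α x = x := by
      intro k
      induction k with
      | zero =>
        intro x hx
        rw [pow_zero, pow_one] at hx
        rw [hx, map_one]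
      | succ k ih =>
        intro x hx
        have h1 : (x ^ 2) ^ 2 ^ k = 1 := by rw [← pow_mul, ← pow_succ']; exact hx
        have h2 := ih _ h1
        have h3 : α x * x⁻¹ ∈ Ω := by
          change (α x * x⁻¹) ^ 2 = 1
          rw [(show Commute (α x) x⁻¹ from hab _ _).mul_pow, ← map_pow, h2, inv_pow, mul_inv_cancel]
        have h4 := left_shift hD hα (x := x) (z := α x * x⁻¹) (by group) (hfix _ h3)
        rwa [mul_inv_eq_one] at h4
    obtain ⟨k, hk⟩ := hD x
    exact hx (key k x hk)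

theorem card_ge (hD2 : ∀ a : D, a ^ 2 = 1) {α : MulAut D} (hα : α ^ 31 = 1) (hne : ∃ x, α x ≠ x) : 32 ≤ Nat.card D := by
  have : Fact (Nat.Prime 31) := ⟨by norm_num⟩
  have : Fact (Nat.Prime 2) := ⟨Nat.prime_two⟩
  have h1 := Act.count (α := α) (x := 31) (k := 1) (by rw [pow_one]; exact hα)
  obtain ⟨i, hi⟩ := IsPGroup.iff_card.1 (show IsPGroup 2 D from fun d => ⟨1, by rw [pow_one]; exact hD2 d⟩)
  have h2 : Nat.card (Act.fixS α) ∣ 2 ^ i := hi ▸ card_subgroup_dvd_card _
  obtain ⟨j, hj, hFj⟩ := (Nat.dvd_prime_pow Nat.prime_two).1 h2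
  rw [hi, hFj] at h1
  have hlt : j < i := by
    refine lt_of_le_of_ne hj fun h => ?_
    obtain ⟨x, hx⟩ := hne
    have h3 : Act.fixS α = ⊤ := eq_top_of_card_eq _ (by rw [hFj, hi, h])
    exact hx (Act.mem_fixS.1 (h3 ▸ mem_top x))
  obtain ⟨d, rfl⟩ : ∃ d, i = j + d := ⟨i - j, by omega⟩
  have h3 : 31 ∣ 2 ^ (j + d) - 2 ^ j := (Nat.modEq_iff_dvd' (Nat.pow_le_pow_right (by norm_num) (by omega))).1 h1.symm
  have h4 : 2 ^ (j + d) - 2 ^ j = 2 ^ j * (2 ^ d - 1) := by rw [pow_add, Nat.mul_sub, mul_one]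
  rw [h4] at h3
  have h5 : 31 ∣ 2 ^ d - 1 := by
    rcases (Nat.Prime.dvd_mul (by norm_num)).1 h3 with h5 | h5
    · exfalso
      have := Nat.Prime.dvd_of_dvd_pow (by norm_num) h5
      omega
    · exact h5
  have h6 : 5 ≤ d := by
    by_contra h6
    have hd : d = 1 ∨ d = 2 ∨ d = 3 ∨ d = 4 := by omega
    rcases hd with rfl | rfl | rfl | rfl <;> revert h5 <;> decide
  rw [hi]
  calc 32 = 2 ^ 5 := by norm_num
    _ ≤ 2 ^ (j + d) := Nat.pow_le_pow_right (by norm_num) (by omega)

/-- the nonabelian case does not occur -/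
theorem abelian_of_mini (hD : IsPGroup 2 D) {α : MulAut D} (hα : α ^ 31 = 1) (hne : ∃ x, α x ≠ x) (hmin : Mini α) :
    ∀ a b : D, a * b = b * a := by
  by_contra hnab
  have : Fact (Nat.Prime 2) := ⟨Nat.prime_two⟩
  have : Nontrivial D := by
    obtain ⟨x, hx⟩ := hne
    exact ⟨⟨_, _, hx⟩⟩
  have hZtop : center D ≠ ⊤ := by
    intro h
    apply hnab
    intro a b
    have : a ∈ center D := h ▸ mem_top a
    exact (mem_center_iff.1 this b).symm
  have hZinv : ∀ w ∈ center D, α w ∈ center D := by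
    intro w hw
    rw [mem_center_iff] at hw ⊢
    intro g
    have h1 := congrArg α (hw (α.symm g))
    rwa [map_mul, map_mul, MulEquiv.apply_symm_apply] at h1
  have hZfix := hmin _ hZinv hZtop
  have hnil : Group.IsNilpotent D := hD.isNilpotent
  have hsol : Group.IsSolvable D := inferInstance
  have hD'top : commutator D ≠ ⊤ := (Group.IsSolvable.commutator_lt_top_of_nontrivial D).ne
  have hD'inv : ∀ w ∈ commutator D, α w ∈ commutator D := by
    intro w hw
    have h1 : (commutator D).map α.toMonoidHom = commutator D := by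
      rw [commutator_def, map_commutator]
      have h2 : (⊤ : Subgroup D).map α.toMonoidHom = ⊤ := map_top_of_surjective _ α.surjective
      rw [h2]
    rw [← h1]
    exact ⟨w, hw, rfl⟩
  have hD'fix := hmin _ hD'inv hD'top
  have hcomm : ∀ a b : D, α ⁅a, b⁆ = ⁅a, b⁆ := fun a b => hD'fix _ (commutator_mem_commutator (mem_top a) (mem_top b))
  -- fixed points are central
  have hFZ : ∀ f : D, α f = f → f ∈ center D := by
    let W : Subgroup D :=
      { carrier := {d | ∀ f : D, α f = f → d * f = f * d}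
        one_mem' := fun f _ => by rw [one_mul, mul_one]
        mul_mem' := by
          intro a b ha hb f hf
          rw [mul_assoc, hb f hf, ← mul_assoc, ha f hf, mul_assoc]
        inv_mem' := by
          intro a ha f hf
          have h1 := ha f hf
          calc a⁻¹ * f = a⁻¹ * (f * a) * a⁻¹ := by group
            _ = a⁻¹ * (a * f) * a⁻¹ := by rw [h1]
            _ = f * a⁻¹ := by group }
    have hWinv : ∀ w ∈ W, α w ∈ W := by
      intro w hw f hf
      have h1 := congrArg α (hw f hf)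
      rwa [map_mul, map_mul, hf] at h1
    have hWd : ∀ d : D, d⁻¹ * α d ∈ W := by
      intro d f hf
      have h1 := hcomm f d
      rw [map_commutatorElement, hf, commutatorElement_def, commutatorElement_def] at h1
      -- f αd f⁻¹ αd⁻¹ = f d f⁻¹ d⁻¹
      have h2 : α d * f⁻¹ * (α d)⁻¹ = d * f⁻¹ * d⁻¹ := by
        have := congrArg (fun z => f⁻¹ * z) h1
        simpa only [mul_assoc, _root_.inv_mul_cancel_left] using this
      have h3 : (d⁻¹ * α d) * f⁻¹ = f⁻¹ * (d⁻¹ * α d) := by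
        calc (d⁻¹ * α d) * f⁻¹ = d⁻¹ * (α d * f⁻¹ * (α d)⁻¹) * α d := by group
          _ = f⁻¹ * (d⁻¹ * α d) := by rw [h2]; group
      calc (d⁻¹ * α d) * f = f * (f⁻¹ * (d⁻¹ * α d)) * f := by group
        _ = f * ((d⁻¹ * α d) * f⁻¹) * f := by rw [h3]
        _ = f * (d⁻¹ * α d) := by group
    have hWtop : W = ⊤ := by
      by_contra hWt
      have hWfix := hmin W hWinv hWt
      obtain ⟨x, hx⟩ := hne
      apply hx
      have h1 := right_shift hD hα (x := x) (z := x⁻¹ * α x) (by group) (hWfix _ (hWd x))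
      rwa [inv_mul_eq_one, eq_comm] at h1
    intro f hf
    rw [mem_center_iff]
    intro g
    have : g ∈ W := hWtop ▸ mem_top g
    exact this f hf
  have hfixZ : ∀ w ∈ center D, α w = w := hZfix
  have hcZ : ∀ a b : D, ⁅a, b⁆ ∈ center D := fun a b => hFZ _ (hcomm a b)
  -- squares are central
  have hsq : ∀ a : D, a ^ 2 ∈ center D := by
    let Ω : Subgroup D :=
      { carrier := {x | x ^ 2 ∈ center D}
        one_mem' := by
          change (1 : D) ^ 2 ∈ center D
          rw [one_pow]; exact one_mem _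
        mul_mem' := by
          intro a b ha hb
          have ha' : a ^ 2 ∈ center D := ha
          have hb' : b ^ 2 ∈ center D := hb
          change (a * b) ^ 2 ∈ center D
          have h1 := mem_center_iff.1 (hcZ b a) (a : D)
          have h2 : (a * b) ^ 2 = a ^ 2 * ⁅b, a⁆ * b ^ 2 := by
            rw [pow_two, pow_two a, pow_two b]
            calc a * b * (a * b) = a * (⁅b, a⁆ * a) * b * b := by rw [commutatorElement_def]; group
              _ = a * (a * ⁅b, a⁆) * b * b := by rw [h1]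
              _ = _ := by group
          rw [h2]
          exact mul_mem (mul_mem ha' (hcZ b a)) hb'
        inv_mem' := by
          intro a ha
          have ha' : a ^ 2 ∈ center D := ha
          change a⁻¹ ^ 2 ∈ center D
          rw [inv_pow]
          exact inv_mem ha' }
    have hΩinv : ∀ w ∈ Ω, α w ∈ Ω := by
      intro w hw
      change (α w) ^ 2 ∈ center D
      rw [← map_pow]
      exact hZinv _ hw
    by_cases hΩt : Ω = ⊤
    · intro a
      have : a ∈ Ω := hΩt ▸ mem_top a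
      exact this
    · exfalso
      have hΩfix := hmin Ω hΩinv hΩt
      apply hZtop
      rw [eq_top_iff]
      intro x _
      have key : ∀ k : ℕ, ∀ x : D, x ^ 2 ^ k = 1 → x ∈ center D := by
        intro k
        induction k with
        | zero =>
          intro x hx
          rw [pow_zero, pow_one] at hx
          rw [hx]; exact one_mem _
        | succ k ih =>
          intro x hx
          have h1 : x ^ 2 ∈ center D := ih (x ^ 2) (by rw [← pow_mul, ← pow_succ']; exact hx)
          exact hFZ x (hΩfix x h1)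
      obtain ⟨k, hk⟩ := hD x
      exact key k x hk
  -- the quotient by the centre
  obtain ⟨V, instV, ⟨e⟩⟩ := StepThree.exists_comm_copy (K := D ⧸ center D) (by
    intro a b
    obtain ⟨a, rfl⟩ := QuotientGroup.mk_surjective a
    obtain ⟨b, rfl⟩ := QuotientGroup.mk_surjective b
    rw [← QuotientGroup.mk_mul, ← QuotientGroup.mk_mul, QuotientGroup.eq]
    have h1 : (a * b)⁻¹ * (b * a) = ⁅b⁻¹, a⁻¹⁆ := by rw [commutatorElement_def]; group
    rw [h1]
    exact hcZ _ _)
  let q : D →* V := e.toMonoidHom.comp (QuotientGroup.mk' (center D))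
  have hq : Function.Surjective q := e.surjective.comp (QuotientGroup.mk'_surjective _)
  have hqker : ∀ d : D, q d = 1 ↔ d ∈ center D := by
    intro d
    rw [← QuotientGroup.eq_one_iff d]
    constructor
    · intro h
      exact e.injective (by rw [map_one]; exact h)
    · intro h
      change e (d : D ⧸ center D) = 1
      rw [h, map_one]
  have hqker' : ∀ {M : Type _} [Group M] (ψ : D →* M), (∀ z ∈ center D, ψ z = 1) → q.ker ≤ ψ.ker := by
    intro M _ ψ hψ d hd
    exact hψ d ((hqker d).1 hd)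
  let x0 : V →* V := q.liftOfSurjective hq ⟨q.comp α.toMonoidHom, hqker' _ fun z hz => (hqker _).2 (hZinv z hz)⟩
  have hx0 : ∀ d : D, x0 (q d) = q (α d) := fun d =>
    MonoidHom.liftOfRightInverse_comp_apply q _ _ ⟨q.comp α.toMonoidHom, _⟩ d
  let x : AddMonoid.End (Additive V) := MonoidHom.toAdditive x0
  have hx : ∀ d : D, x (Additive.ofMul (q d)) = Additive.ofMul (q (α d)) := fun d => congrArg Additive.ofMul (hx0 d)
  have hxn : ∀ n : ℕ, ∀ d : D, (x ^ n) (Additive.ofMul (q d)) = Additive.ofMul (q ((α ^ n) d)) := by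
    intro n
    induction n with
    | zero => intro d; rfl
    | succ n ih =>
      intro d
      rw [pow_succ', pow_succ']
      change x ((x ^ n) _) = _
      rw [ih, hx]
      rfl
  obtain ⟨S, hS, hS0, hS1⟩ := endo_key (V := Additive V) (by
      intro v
      obtain ⟨d, hd⟩ := hq (Additive.toMul v)
      have h1 : q (d ^ 2) = 1 := (hqker _).2 (hsq d)
      rw [pow_two, map_mul, hd] at h1
      exact h1) x (by
      ext v
      obtain ⟨d, hd⟩ := hq (Additive.toMul v)
      have h1 := hxn 31 d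
      rw [hα] at h1
      have h2 : q ((1 : MulAut D) d) = Additive.toMul v := hd
      rw [h2, hd] at h1
      exact h1) (by
      intro v hv
      obtain ⟨d, hd⟩ := hq (Additive.toMul v)
      have h1 := hx d
      rw [hd] at h1
      have h2 : Additive.toMul v = q (α d) := by
        have : x v = Additive.ofMul (q (α d)) := h1
        rw [hv] at this
        exact this
      have h3 : α d * d⁻¹ ∈ center D := by
        rw [← hqker, map_mul, map_inv, ← h2, hd, mul_inv_cancel]
      have h4 := left_shift hD hα (x := d) (z := α d * d⁻¹) (by group) (hfixZ _ h3)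
      rw [mul_inv_eq_one] at h4
      have h5 : q d = 1 := (hqker d).2 (hFZ d h4)
      rw [hd] at h5
      exact h5) (by
      intro W hW
      let W' : Subgroup D :=
        { carrier := {d | Additive.ofMul (q d) ∈ W}
          one_mem' := by
            change Additive.ofMul (q 1) ∈ W
            rw [map_one]
            exact W.zero_mem
          mul_mem' := by
            intro a b ha hb
            change Additive.ofMul (q (a * b)) ∈ W
            rw [map_mul]
            exact W.add_mem ha hb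
          inv_mem' := by
            intro a ha
            change Additive.ofMul (q a⁻¹) ∈ W
            rw [map_inv]
            exact W.neg_mem ha }
      have hW'inv : ∀ w ∈ W', α w ∈ W' := by
        intro w hw
        change Additive.ofMul (q (α w)) ∈ W
        rw [← hx]
        exact hW _ hw
      by_cases hW't : W' = ⊤
      · right
        rw [eq_top_iff]
        intro v _
        obtain ⟨d, hd⟩ := hq (Additive.toMul v)
        have h1 : d ∈ W' := hW't ▸ mem_top d
        have h2 : Additive.ofMul (q d) ∈ W := h1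
        rw [hd] at h2
        exact h2
      · left
        have hW'fix := hmin W' hW'inv hW't
        rw [eq_bot_iff]
        intro v hv
        obtain ⟨d, hd⟩ := hq (Additive.toMul v)
        have h1 : d ∈ W' := by
          change Additive.ofMul (q d) ∈ W
          rw [hd]
          exact hv
        have h2 : q d = 1 := (hqker d).2 (hFZ d (hW'fix d h1))
        rw [hd] at h2
        exact AddSubgroup.mem_bot.2 h2)
  -- the commutator form
  apply hnab
  intro a b
  have hcl : ∀ b' a₁ a₂ : D, ⁅a₁ * a₂, b'⁆ = ⁅a₁, b'⁆ * ⁅a₂, b'⁆ := by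
    intro b' a₁ a₂
    have h1 := mem_center_iff.1 (hcZ a₂ b') a₁
    calc ⁅a₁ * a₂, b'⁆ = a₁ * ⁅a₂, b'⁆ * (b' * a₁⁻¹ * b'⁻¹) := by
          rw [commutatorElement_def, commutatorElement_def]; group
      _ = ⁅a₂, b'⁆ * a₁ * (b' * a₁⁻¹ * b'⁻¹) := by rw [h1]
      _ = ⁅a₂, b'⁆ * ⁅a₁, b'⁆ := by rw [commutatorElement_def a₁]; group
      _ = ⁅a₁, b'⁆ * ⁅a₂, b'⁆ := (mem_center_iff.1 (hcZ a₂ b') _).symm
  have hcr : ∀ a' b₁ b₂ : D, ⁅a', b₁ * b₂⁆ = ⁅a', b₁⁆ * ⁅a', b₂⁆ := by
    intro a' b₁ b₂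
    have h1 := mem_center_iff.1 (hcZ a' b₂) b₁
    calc ⁅a', b₁ * b₂⁆ = ⁅a', b₁⁆ * (b₁ * ⁅a', b₂⁆ * b₁⁻¹) := by
          rw [commutatorElement_def, commutatorElement_def, commutatorElement_def]; group
      _ = ⁅a', b₁⁆ * (⁅a', b₂⁆ * b₁ * b₁⁻¹) := by rw [h1]
      _ = _ := by rw [mul_inv_cancel_right]
  obtain ⟨C0, instC0, ⟨ec⟩⟩ := StepThree.exists_comm_copy (K := center D) (fun a b =>
    Subtype.ext (mem_center_iff.1 b.2 a))
  let φ : D →* C0 := ec.toMonoidHom.comp
    (MonoidHom.mk' (fun a' => (⟨⁅a', b⁆, hcZ a' b⟩ : center D)) fun a₁ a₂ => Subtype.ext (hcl b a₁ a₂))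
  let ψ : D →* C0 := ec.toMonoidHom.comp
    (MonoidHom.mk' (fun b' => (⟨⁅a, b'⁆, hcZ a b'⟩ : center D)) fun b₁ b₂ => Subtype.ext (hcr a b₁ b₂))
  have hφd : ∀ d : D, φ d = ec ⟨⁅d, b⁆, hcZ d b⟩ := fun _ => rfl
  have hψd : ∀ d : D, ψ d = ec ⟨⁅a, d⁆, hcZ a d⟩ := fun _ => rfl
  let φ' : V →* C0 := q.liftOfSurjective hq ⟨φ, hqker' _ fun z hz => by
    rw [hφd, ← map_one ec]
    congr 1
    apply Subtype.ext
    change ⁅z, b⁆ = 1
    rw [commutatorElement_eq_one_iff_mul_comm]
    exact (mem_center_iff.1 hz b).symm⟩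
  let ψ' : V →* C0 := q.liftOfSurjective hq ⟨ψ, hqker' _ fun z hz => by
    rw [hψd, ← map_one ec]
    congr 1
    apply Subtype.ext
    change ⁅a, z⁆ = 1
    rw [commutatorElement_eq_one_iff_mul_comm]
    exact mem_center_iff.1 hz a⟩
  have hφ' : ∀ d : D, φ' (q d) = φ d := fun d => MonoidHom.liftOfRightInverse_comp_apply q _ _ ⟨φ, _⟩ d
  have hψ' : ∀ d : D, ψ' (q d) = ψ d := fun d => MonoidHom.liftOfRightInverse_comp_apply q _ _ ⟨ψ, _⟩ d
  have h0 : ∏ k ∈ S, q ((α ^ k) a) = 1 := by
    have h1 := congrArg (fun f : AddMonoid.End (Additive V) => f (Additive.ofMul (q a))) hS0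
    have h2 : (∑ k ∈ S, x ^ k) (Additive.ofMul (q a)) = ∑ k ∈ S, (x ^ k) (Additive.ofMul (q a)) :=
      AddMonoidHom.finsetSum_apply _ _ _
    rw [h2, Finset.sum_congr rfl (fun k _ => hxn k a)] at h1
    have h3 : Additive.ofMul (∏ k ∈ S, q ((α ^ k) a)) = Additive.ofMul 1 := by
      rw [ofMul_prod]
      exact h1
    exact Additive.ofMul.injective h3
  have h1' : ∏ k ∈ S, q ((α ^ (31 - k)) b) = q b := by
    have h1 := congrArg (fun f : AddMonoid.End (Additive V) => f (Additive.ofMul (q b))) hS1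
    have h2 : (∑ k ∈ S, x ^ (31 - k)) (Additive.ofMul (q b)) = ∑ k ∈ S, (x ^ (31 - k)) (Additive.ofMul (q b)) :=
      AddMonoidHom.finsetSum_apply _ _ _
    rw [h2, Finset.sum_congr rfl (fun k _ => hxn (31 - k) b)] at h1
    have h3 : Additive.ofMul (∏ k ∈ S, q ((α ^ (31 - k)) b)) = Additive.ofMul (q b) := by
      rw [ofMul_prod]
      exact h1
    exact Additive.ofMul.injective h3
  have hφ0 : ∏ k ∈ S, φ ((α ^ k) a) = 1 := by
    have h2 := congrArg φ' h0
    rw [map_prod, map_one] at h2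
    rw [← h2]
    exact Finset.prod_congr rfl fun k _ => (hφ' _).symm
  have hψ0 : ∏ k ∈ S, ψ ((α ^ (31 - k)) b) = ψ b := by
    have h2 := congrArg ψ' h1'
    rw [map_prod, hψ'] at h2
    rw [← h2]
    exact Finset.prod_congr rfl fun k _ => (hψ' _).symm
  have hcn : ∀ n : ℕ, ∀ u v : D, (α ^ n) ⁅u, v⁆ = ⁅u, v⁆ := by
    intro n
    induction n with
    | zero => intro u v; rfl
    | succ n ih =>
      intro u v
      rw [pow_succ']
      change α ((α ^ n) ⁅u, v⁆) = _
      rw [ih, hcomm]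
  have heq : ∀ k ∈ S, φ ((α ^ k) a) = ψ ((α ^ (31 - k)) b) := by
    intro k hk
    rw [hφd, hψd]
    congr 1
    apply Subtype.ext
    change ⁅(α ^ k) a, b⁆ = ⁅a, (α ^ (31 - k)) b⁆
    rw [← hcn (31 - k) ((α ^ k) a) b, map_commutatorElement]
    congr 1
    have h2 : (α ^ (31 - k)) ((α ^ k) a) = (α ^ (31 - k) * α ^ k) a := rfl
    rw [h2, ← pow_add, Nat.sub_add_cancel (hS k hk), hα]
    rfl
  rw [Finset.prod_congr rfl heq, hψ0] at hφ0
  rw [hψd, ← map_one ec] at hφ0
  have h2 : ⁅a, b⁆ = 1 := congrArg Subtype.val (ec.injective hφ0)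
  exact commutatorElement_eq_one_iff_mul_comm.1 h2

/-- conjugation by a normalising element as an automorphism -/
def cj {G : Type*} [Group G] {Y : Subgroup G} {z : G} (hz : z ∈ normalizer (Y : Set G)) : MulAut Y :=
  { toFun := fun l => ⟨z * l * z⁻¹, (mem_normalizer_iff.1 hz _).1 l.2⟩
    invFun := fun l => ⟨z⁻¹ * l * z⁻¹⁻¹, (mem_normalizer_iff.1 (inv_mem hz) _).1 l.2⟩
    left_inv := fun l => by ext; simp [mul_assoc]
    right_inv := fun l => by ext; simp only [mul_assoc, _root_.inv_inv, _root_.mul_assoc, _root_.mul_inv_cancel_left, _root_.mul_inv_cancel, _root_.mul_one]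
    map_mul' := fun a b => by ext; simp only [mul_assoc, _root_.Subgroup.coe_mul, _root_.mul_assoc, _root_.MulMemClass.mk_mul_mk, _root_.inv_mul_cancel_left] }

theorem cj_apply {G : Type*} [Group G] {Y : Subgroup G} {z : G} (hz : z ∈ normalizer (Y : Set G)) (l : Y) :
    ((cj hz l : Y) : G) = z * l * z⁻¹ := rfl

theorem cj_pow {G : Type*} [Group G] {Y : Subgroup G} {z : G} (hz : z ∈ normalizer (Y : Set G)) (n : ℕ) (l : Y) :
    (((cj hz ^ n) l : Y) : G) = z ^ n * l * (z ^ n)⁻¹ := by
  induction n with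
  | zero => simp
  | succ n ih =>
    rw [pow_succ', pow_succ' z]
    change ((cj hz ((cj hz ^ n) l) : Y) : G) = _
    rw [cj_apply, ih]
    group

theorem mem_normalizer_of_forall {G : Type*} [Group G] [Finite G] {W : Subgroup G} {y : G}
    (h : ∀ w ∈ W, y * w * y⁻¹ ∈ W) : y ∈ normalizer (W : Set G) := by
  have h1 : W.map (MulAut.conj y).toMonoidHom = W := by
    apply Subgroup.eq_of_le_of_card_ge
    · rintro _ ⟨w, hw, rfl⟩
      exact h w hw
    · exact (Nat.card_congr (W.equivMapOfInjective _ (MulAut.conj y).injective).toEquiv).le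
  exact mem_normalizer_of_map_conj h1

/-- **Lemma F.** -/
theorem lemF {G : Type*} [Group G] [Finite G] {Q : Subgroup G} (hQ : IsPGroup 2 Q) {y : G} (hy : y ^ 31 = 1)
    (hyQ : y ∈ normalizer (Q : Set G)) (hnc : ∃ q ∈ Q, y * q ≠ q * y) :
    ∃ E ≤ Q, (∀ a ∈ E, ∀ b ∈ E, a * b = b * a) ∧ (∀ a ∈ E, a ^ 2 = 1) ∧ 32 ≤ Nat.card E := by
  let 𝒮 : Set (Subgroup G) := {E | E ≤ Q ∧ y ∈ normalizer (E : Set G) ∧ ∃ q ∈ E, y * q ≠ q * y}
  obtain ⟨D, ⟨hDQ, hyD, hDnc⟩, hDmin⟩ := Set.Finite.exists_minimal (Set.toFinite 𝒮) ⟨Q, le_rfl, hyQ, hnc⟩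
  have hD : IsPGroup 2 D := hQ.to_le hDQ
  have hα : cj hyD ^ 31 = 1 := by
    ext l
    rw [cj_pow, hy]
    simp
  have hne : ∃ x, cj hyD x ≠ x := by
    obtain ⟨q, hq, hyq⟩ := hDnc
    refine ⟨⟨q, hq⟩, fun h => hyq ?_⟩
    have h1 : y * q * y⁻¹ = q := congrArg Subtype.val h
    calc y * q = y * q * y⁻¹ * y := by group
      _ = q * y := by rw [h1]
  have hmini : Mini (cj hyD) := by
    intro W hW hWt w hw
    have hW' : y ∈ normalizer ((W.map D.subtype : Subgroup G) : Set G) := by
      apply mem_normalizer_of_forall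
      rintro _ ⟨v, hv, rfl⟩
      exact ⟨_, hW v hv, rfl⟩
    have hle : W.map D.subtype ≤ D := map_subtype_le W
    by_contra hne'
    have h1 : W.map D.subtype ∈ 𝒮 := by
      refine ⟨hle.trans hDQ, hW', (w : G), ⟨w, hw, rfl⟩, fun h => hne' ?_⟩
      apply Subtype.ext
      rw [cj_apply, h]
      group
    have h2 := hDmin h1 hle
    apply hWt
    rw [eq_top_iff]
    intro x _
    obtain ⟨v, hv, hvx⟩ := h2 x.2
    have : v = x := Subtype.ext hvx
    exact this ▸ hv
  have hab := abelian_of_mini hD hα hne hmini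
  have hsq := abelian_case hD hα hne hmini hab
  exact ⟨D, hDQ, fun a ha b hb => congrArg Subtype.val (hab ⟨a, ha⟩ ⟨b, hb⟩),
    fun a ha => congrArg Subtype.val (hsq ⟨a, ha⟩), card_ge hsq hα hne⟩

end Cfsg.Agent.H370.LemF
end

private theorem dce_51b226687a37 : _root_.True := by
  try have : _root_.True := by simp only [_root_.Cfsg.Agent.H370.LemF.cj.congr_simp]
  exact _root_.True.intro
end
end
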